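import Mathlib

/-!
# WrCv, NONSPLIT (helper882, #18727), piece [E]: the linear algebra of (9d)

`F` a finite field of characteristic two, `|F| ≥ 4`, `Γ` a group of permutations of `F × F` which contains
`(z, x) ↦ (z, x + cz)` and `(z, x) ↦ (z + cx, x)` for all `c`.  If `(z, x) ↦ (z, x + α z)` is in `Γ`, `α` additive,
the additive maps with this property are at most `2|F|` in number and `g⁴ = 1` implies `g² = 1` in `Γ`, then `α` is a
scalar.

* `scalar_or` : an additive group of additive maps of `F` which contains the scalars, has at most `2|F|` elements and is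
  invariant under `β ↦ μ β(μ ·)`, consists of scalars, or `|F| = 4` and it contains `z ↦ c (z² + z)`, `c ≠ 0`;
* `scalar` : the theorem.
-/

set_option autoImplicit false

namespace Cfsg.Agent.Omega.IId.CvNS.LinE

variable {F : Type*} [Field F]

/-- multiplication by `c` -/
def sc (c : F) : F →+ F := AddMonoidHom.mulLeft c

@[simp] theorem sc_apply (c z : F) : sc c z = c * z := rfl

/-- `β ↦ μ β(μ ·)` -/
def tw (μ : F) (β : F →+ F) : F →+ F := (sc μ).comp (β.comp (sc μ))

@[simp] theorem tw_apply (μ : F) (β : F →+ F) (z : F) : tw μ β z = μ * β (μ * z) := rfl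

theorem exists_ne_zero_one [Finite F] (h4 : 4 ≤ Nat.card F) : ∃ m : F, m ≠ 0 ∧ m ≠ 1 := by
  by_contra hn
  push Not at hn
  have hsub : (Set.univ : Set F) ⊆ {0, 1} := by
    intro x _
    by_cases hx : x = 0
    · left; exact hx
    · right; exact hn x hx
  have h3 := Nat.card_mono (Set.toFinite ({0, 1} : Set F)) hsub
  have h5 : Nat.card ({0, 1} : Set F) ≤ 2 := by
    rw [Nat.card_coe_set_eq]
    exact (Set.ncard_insert_le _ _).trans (by rw [Set.ncard_singleton])
  rw [Nat.card_univ] at h3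
  omega

/-- The first half: an additive group of additive maps. -/
theorem scalar_or [Finite F] [CharP F 2] (A : AddSubgroup (F →+ F)) (hs : ∀ c, sc c ∈ A)
    (ht : ∀ μ : F, μ ≠ 0 → ∀ β ∈ A, tw μ β ∈ A) (hc : Nat.card A ≤ 2 * Nat.card F) (h4 : 4 ≤ Nat.card F)
    {α : F →+ F} (hα : α ∈ A) :
    (∃ c, ∀ z, α z = c * z) ∨ (Nat.card F = 4 ∧ ∃ c : F, c ≠ 0 ∧ ∃ β ∈ A, ∀ z, β z = c * (z ^ 2 + z)) := by
  by_cases h : ∃ c, ∀ z, α z = c * z
  · exact Or.inl h
  right
  -- `α₀`
  set α₀ : F →+ F := α - sc (α 1) with hα₀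
  have hA₀ : α₀ ∈ A := A.sub_mem hα (hs _)
  have h1 : α₀ 1 = 0 := by simp [hα₀]
  have hns : ∀ c, α₀ ≠ sc c := by
    intro c hc
    apply h
    refine ⟨c + α 1, fun z => ?_⟩
    have := DFunLike.congr_fun hc z
    simp only [hα₀, AddMonoidHom.sub_apply, sc_apply] at this
    rw [add_mul, ← this]
    ring
  -- every element is a scalar or `α₀` plus a scalar
  have hinj : Function.Injective (sc : F → (F →+ F)) := by
    intro a b hab
    have := DFunLike.congr_fun hab 1
    simpa using this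
  have hcase : ∀ β ∈ A, (∃ c, β = sc c) ∨ ∃ c, β = α₀ + sc c := by
    intro β hβ
    by_contra hn
    push Not at hn
    -- three disjoint cosets
    let f : Fin 3 × F → A := fun p => match p with
      | (0, c) => ⟨sc c, hs c⟩
      | (1, c) => ⟨α₀ + sc c, A.add_mem hA₀ (hs c)⟩
      | (2, c) => ⟨β + sc c, A.add_mem hβ (hs c)⟩
    have hsub : ∀ a b : F, sc a - sc b = sc (a - b) := by
      intro a b; ext z; simp [sub_mul]
    have hf : Function.Injective f := by
      rintro ⟨i, a⟩ ⟨j, b⟩ hab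
      have h2 : ((f (i, a) : A) : F →+ F) = f (j, b) := congrArg Subtype.val hab
      have key1 : ∀ a b, α₀ + sc a ≠ sc b := by
        intro a b h3
        exact hns (b - a) (by rw [← hsub, ← h3]; abel)
      have key2 : ∀ a b, β + sc a ≠ sc b := by
        intro a b h3
        exact hn.1 (b - a) (by rw [← hsub, ← h3]; abel)
      have key3 : ∀ a b, β + sc a ≠ α₀ + sc b := by
        intro a b h3
        exact hn.2 (b - a) (by rw [← hsub, ← add_sub_assoc, ← h3]; abel)
      fin_cases i <;> fin_cases j <;> simp only [f] at h2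
      · rw [hinj h2]
      · exact absurd h2.symm (key1 _ _)
      · exact absurd h2.symm (key2 _ _)
      · exact absurd h2 (key1 _ _)
      · rw [hinj (add_left_cancel h2)]
      · exact absurd h2.symm (key3 _ _)
      · exact absurd h2 (key2 _ _)
      · exact absurd h2 (key3 _ _)
      · rw [hinj (add_left_cancel h2)]
    have hfin : Finite A := by
      have : Finite (F →+ F) := DFunLike.finite _
      infer_instance
    have h3 := Nat.card_le_card_of_injective f hf
    rw [Nat.card_prod, Nat.card_eq_fintype_card, Fintype.card_fin] at h3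
    have : 0 < Nat.card F := Nat.card_pos
    omega
  -- the functional equation
  have heq : ∀ μ : F, μ ≠ 0 → ∀ z, μ * α₀ (μ * z) = α₀ z + μ * α₀ μ * z := by
    intro μ hμ z
    rcases hcase _ (ht μ hμ _ hA₀) with ⟨c, hc⟩ | ⟨c, hc⟩
    · exfalso
      apply hns (μ⁻¹ * c * μ⁻¹)
      ext z
      have := DFunLike.congr_fun hc (μ⁻¹ * z)
      simp only [tw_apply, sc_apply] at this ⊢
      rw [mul_inv_cancel_left₀ hμ] at this
      have e : α₀ z = μ⁻¹ * (μ * α₀ z) := by rw [inv_mul_cancel_left₀ hμ]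
      rw [e, this]
      ring
    · have e1 := DFunLike.congr_fun hc 1
      have e2 := DFunLike.congr_fun hc z
      simp only [tw_apply, AddMonoidHom.add_apply, sc_apply, mul_one, h1, zero_add] at e1 e2
      rw [e2, e1]
  have hsym : ∀ μ z : F, μ ≠ 0 → z ≠ 0 → z * α₀ z * (1 + μ ^ 2) = μ * α₀ μ * (1 + z ^ 2) := by
    intro μ z hμ hz
    have e1 := heq μ hμ z
    have e2 := heq z hz μ
    rw [mul_comm z μ] at e2
    -- `μ z α₀(μ z)` in two ways
    have e3 : z * (α₀ z + μ * α₀ μ * z) = μ * (α₀ μ + z * α₀ z * μ) := by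
      rw [← e1, ← e2]; ring
    have h2 : (2 : F) = 0 := CharTwo.two_eq_zero
    linear_combination e3 + (μ * α₀ μ - μ * α₀ μ) * h2 + (z * α₀ z * μ ^ 2 - μ * α₀ μ * z ^ 2) * h2
  -- a non-trivial value
  obtain ⟨m, hm0, hm1⟩ := exists_ne_zero_one h4
  have hone : ∀ m : F, m ≠ 1 → (1 : F) + m ^ 2 ≠ 0 := by
    intro m hm h
    apply hm
    have h2 : (2 : F) = 0 := CharTwo.two_eq_zero
    have : (m - 1) ^ 2 = 0 := by linear_combination h - m * h2
    exact sub_eq_zero.1 (pow_eq_zero_iff (two_ne_zero) |>.1 this)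
  set c : F := m * α₀ m / (1 + m ^ 2) with hcdef
  have hval : ∀ z : F, z ≠ 0 → z * α₀ z = c * (1 + z ^ 2) := by
    intro z hz
    have := hsym m z hm0 hz
    rw [hcdef, div_mul_eq_mul_div, eq_div_iff (hone m hm1)]
    exact this
  have hc0 : c ≠ 0 := by
    intro hc
    apply hns 0
    ext z
    by_cases hz : z = 0
    · simp [hz]
    · have := hval z hz
      rw [hc, zero_mul] at this
      simpa using (mul_eq_zero.1 this).resolve_left hz
  -- additivity
  have hquad : ∀ z : F, z ≠ 0 → z ≠ 1 → z ^ 2 + z + 1 = 0 := by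
    intro z hz hz1
    have h2 : (2 : F) = 0 := CharTwo.two_eq_zero
    have hz1' : z + 1 ≠ 0 := by
      intro h; apply hz1; linear_combination h - h2
    have e1 := hval z hz
    have e2 := hval (z + 1) hz1'
    rw [map_add, h1, add_zero] at e2
    -- `z α₀ z = c (1 + z²)`, `(z+1) α₀ z = c (1 + (z+1)²) = c z²`
    have e3 : α₀ z = c := by linear_combination e2 - e1 + c * z * h2
    rw [e3] at e1
    have e4 : c * (z ^ 2 + z + 1) = 0 := by linear_combination -e1 + c * z * h2
    exact (mul_eq_zero.1 e4).resolve_left hc0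
  have h2 : (2 : F) = 0 := CharTwo.two_eq_zero
  have hval' : ∀ z : F, z ≠ 0 → z ≠ 1 → α₀ z = c := by
    intro z hz hz1
    have hz1' : z + 1 ≠ 0 := by
      intro h; apply hz1; linear_combination h - h2
    have e1 := hval z hz
    have e2 := hval (z + 1) hz1'
    rw [map_add, h1, add_zero] at e2
    linear_combination e2 - e1 + c * z * h2
  refine ⟨?_, c, hc0, α₀, hA₀, ?_⟩
  · refine le_antisymm ?_ h4
    have hsub : (Set.univ : Set F) ⊆ {0, 1, m, m + 1} := by
      intro z _
      by_cases hz : z = 0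
      · simp [hz]
      by_cases hz1 : z = 1
      · simp [hz1]
      have e1 := hquad m hm0 hm1
      have e2 := hquad z hz hz1
      have e3 : (z - m) * (z - (m + 1)) = 0 := by
        linear_combination e2 - e1 + (m ^ 2 + m - z * m - z) * h2
      rcases mul_eq_zero.1 e3 with h | h
      · simp [sub_eq_zero.1 h]
      · simp [sub_eq_zero.1 h]
    have h3 := Nat.card_mono (Set.toFinite ({0, 1, m, m + 1} : Set F)) hsub
    rw [Nat.card_univ] at h3
    refine h3.trans ?_
    rw [Nat.card_coe_set_eq]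
    refine (Set.ncard_insert_le _ _).trans (Nat.succ_le_succ ?_)
    refine (Set.ncard_insert_le _ _).trans (Nat.succ_le_succ ?_)
    exact (Set.ncard_insert_le _ _).trans (by rw [Set.ncard_singleton])
  · intro z
    by_cases hz : z = 0
    · simp [hz]
    by_cases hz1 : z = 1
    · rw [hz1, h1]; linear_combination -c * h2
    rw [hval' z hz hz1]
    have e2 := hquad z hz hz1
    linear_combination -c * e2 + c * h2

/-! ### The group of permutations of `F × F` -/

/-- `(z, x) ↦ (z, x + β z)` -/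
def up (β : F →+ F) : Equiv.Perm (F × F) where
  toFun p := (p.1, p.2 + β p.1)
  invFun p := (p.1, p.2 - β p.1)
  left_inv p := by simp
  right_inv p := by simp

/-- `(z, x) ↦ (z + c x, x)` -/
def lo (c : F) : Equiv.Perm (F × F) where
  toFun p := (p.1 + c * p.2, p.2)
  invFun p := (p.1 - c * p.2, p.2)
  left_inv p := by simp
  right_inv p := by simp

@[simp] theorem up_apply (β : F →+ F) (p : F × F) : up β p = (p.1, p.2 + β p.1) := rfl

@[simp] theorem lo_apply (c : F) (p : F × F) : lo c p = (p.1 + c * p.2, p.2) := rfl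

theorem up_add (β γ : F →+ F) : up (β + γ) = up β * up γ := by
  ext p <;> simp [add_comm, add_left_comm]

theorem up_zero : up (0 : F →+ F) = 1 := by
  ext p <;> simp

theorem up_injective : Function.Injective (up : (F →+ F) → Equiv.Perm (F × F)) := by
  intro β γ h
  ext z
  have := congrArg (fun e : Equiv.Perm (F × F) => (e (z, 0)).2) h
  simpa using this

/-- the additive maps `β` with `up β ∈ Γ` -/
def aa (Γ : Subgroup (Equiv.Perm (F × F))) : AddSubgroup (F →+ F) where
  carrier := {β | up β ∈ Γ}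
  add_mem' := by
    intro a b ha hb
    show up (a + b) ∈ Γ
    rw [up_add]
    exact Γ.mul_mem ha hb
  zero_mem' := by
    show up 0 ∈ Γ
    rw [up_zero]
    exact Γ.one_mem
  neg_mem' := by
    intro a ha
    show up (-a) ∈ Γ
    have h : up (-a) = (up a)⁻¹ := by
      rw [eq_inv_iff_mul_eq_one, ← up_add, neg_add_cancel, up_zero]
    rw [h]
    exact Γ.inv_mem ha

theorem mem_aa {Γ : Subgroup (Equiv.Perm (F × F))} {β : F →+ F} : β ∈ aa Γ ↔ up β ∈ Γ := Iff.rfl

/-- `(z, x) ↦ (t⁻¹ x, t z)` -/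
theorem wey_apply [CharP F 2] {t : F} (ht : t ≠ 0) (p : F × F) :
    (up (sc t) * lo t⁻¹ * up (sc t)) p = (t⁻¹ * p.2, t * p.1) := by
  have h2 : (2 : F) = 0 := CharTwo.two_eq_zero
  simp only [Equiv.Perm.mul_apply, up_apply, lo_apply, sc_apply, Prod.mk.injEq]
  have e : t⁻¹ * t = 1 := inv_mul_cancel₀ ht
  constructor
  · linear_combination p.1 * e + p.1 * h2
  · linear_combination (p.2 + t * p.1) * e + (p.2 + t * p.1) * h2

/-- **[E] of #18727.** -/
theorem scalar [Finite F] [CharP F 2] (h4 : 4 ≤ Nat.card F) (Γ : Subgroup (Equiv.Perm (F × F)))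
    (hu : ∀ c, up (sc c) ∈ Γ) (hl : ∀ c, lo c ∈ Γ) (hc : Nat.card (aa Γ) ≤ 2 * Nat.card F)
    (hx : Nat.card F = 4 → ∀ g ∈ Γ, g ^ 4 = 1 → g ^ 2 = 1) {α : F →+ F} (hα : up α ∈ Γ) :
    ∃ c, ∀ z, α z = c * z := by
  have h2 : (2 : F) = 0 := CharTwo.two_eq_zero
  have ht : ∀ μ : F, μ ≠ 0 → ∀ β ∈ aa Γ, tw μ β ∈ aa Γ := by
    intro μ hμ β hβ
    rw [mem_aa] at hβ ⊢
    -- the torus
    have hw : ∀ t : F, up (sc t) * lo t⁻¹ * up (sc t) ∈ Γ := fun t =>
      Γ.mul_mem (Γ.mul_mem (hu t) (hl _)) (hu t)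
    set τ : Equiv.Perm (F × F) :=
      (up (sc 1) * lo (1 : F)⁻¹ * up (sc 1)) * (up (sc μ) * lo μ⁻¹ * up (sc μ)) with hτ
    have hτm : τ ∈ Γ := Γ.mul_mem (hw 1) (hw μ)
    have hτa : ∀ p : F × F, τ p = (μ * p.1, μ⁻¹ * p.2) := by
      intro p
      rw [hτ, Equiv.Perm.mul_apply, wey_apply hμ, wey_apply one_ne_zero]
      simp
    have h : up (tw μ β) = τ⁻¹ * up β * τ := by
      rw [mul_assoc, eq_inv_mul_iff_mul_eq]
      ext p
      · simp only [Equiv.Perm.mul_apply, hτa, up_apply]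
      · simp only [Equiv.Perm.mul_apply, hτa, up_apply, tw_apply]
        rw [mul_add, inv_mul_cancel_left₀ hμ]
    rw [h]
    exact Γ.mul_mem (Γ.mul_mem (Γ.inv_mem hτm) hβ) hτm
  rcases scalar_or (aa Γ) hu ht hc h4 (mem_aa.2 hα) with h | ⟨hq, c, hc0, β, hβ, hβc⟩
  · exact h
  exfalso
  have hF4 : ∀ z : F, z ^ 4 = z := by
    have := Fintype.ofFinite F
    intro z
    have h := FiniteField.pow_card z
    rwa [← Nat.card_eq_fintype_card, hq] at h
  -- `g = lo c⁻¹ * up β`
  have hg : lo c⁻¹ * up β ∈ Γ := Γ.mul_mem (hl _) (mem_aa.1 hβ)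
  have hga : ∀ z x : F, (lo c⁻¹ * up β) (z, c * x) = (z ^ 2 + x, c * (z ^ 2 + z + x)) := by
    intro z x
    simp only [Equiv.Perm.mul_apply, up_apply, lo_apply, hβc, Prod.mk.injEq]
    have e : c⁻¹ * c = 1 := inv_mul_cancel₀ hc0
    constructor
    · linear_combination (x + z ^ 2 + z) * e + z * h2
    · ring
  have hg2 : ∀ z x : F, ((lo c⁻¹ * up β) ^ 2) (z, c * x) = (z ^ 2 + x ^ 2 + x, c * x ^ 2) := by
    intro z x
    rw [pow_two, Equiv.Perm.mul_apply, hga, hga, Prod.mk.injEq]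
    constructor
    · linear_combination hF4 z + (z ^ 2 * x) * h2 + z * h2
    · linear_combination c * hF4 z + c * (z ^ 2 * x + z ^ 2 + z + x) * h2
  have hg4 : (lo c⁻¹ * up β) ^ 4 = 1 := by
    ext p
    all_goals
      obtain ⟨z, y⟩ := p
      obtain ⟨x, rfl⟩ : ∃ x, y = c * x := ⟨c⁻¹ * y, by rw [mul_inv_cancel_left₀ hc0]⟩
      rw [show (4 : ℕ) = 2 + 2 from rfl, pow_add, Equiv.Perm.mul_apply, hg2, hg2]
      simp only [Equiv.Perm.one_apply]
    · linear_combination hF4 z + (z ^ 2 * x ^ 2 + z ^ 2 * x + x ^ 2 * x + x ^ 4 + x ^ 2) * h2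
    · linear_combination c * hF4 x
  have hg1 := hx hq _ hg hg4
  obtain ⟨m, hm0, hm1⟩ := exists_ne_zero_one h4
  have h3 := hg2 0 m
  rw [hg1] at h3
  simp only [Equiv.Perm.one_apply, Prod.mk.injEq] at h3
  have h5 := mul_left_cancel₀ hc0 h3.2
  apply hm1
  apply mul_left_cancel₀ hm0
  linear_combination -h5

/-- **[E] of #18727**, for a finite group `G` with a homomorphism to the permutations of `F × F`: `P` contains a Sylow
2-subgroup of `G`, the image of `P` has order at most `2|F|` and exponent two. -/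
theorem scalar_of_sylow [Finite F] [CharP F 2] (h4 : 4 ≤ Nat.card F) {G : Type*} [Group G] [Finite G]
    (ρ : G →* Equiv.Perm (F × F)) (hu : ∀ c, ∃ g, ρ g = up (sc c)) (hl : ∀ c, ∃ g, ρ g = lo c)
    (P : Subgroup G) (hP : ¬ 2 ∣ P.index) (hc : Nat.card (P.map ρ) ≤ 2 * Nat.card F)
    (hx : ∀ p ∈ P, ρ p * ρ p = 1) {α : F →+ F} (hα : ∃ g, ρ g = up α) : ∃ c, ∀ z, α z = c * z := by
  have : Fact (Nat.Prime 2) := ⟨Nat.prime_two⟩
  -- the image of `P` is a Sylow 2-subgroup of the image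
  have hP2 : IsPGroup 2 (P.map ρ) := by
    intro x
    refine ⟨1, ?_⟩
    obtain ⟨p, hp, hpx⟩ := x.2
    apply Subtype.ext
    rw [pow_one, Subgroup.coe_pow, pow_two, ← hpx]
    exact hx p hp
  have hidx : ¬ 2 ∣ ((P.map ρ).subgroupOf ρ.range).index := by
    intro h
    apply hP
    have h1 : (P.map ρ).relIndex ρ.range = (P ⊔ ρ.ker).index := by
      rw [MonoidHom.range_eq_map, Subgroup.relIndex_map_map, top_sup_eq, Subgroup.relIndex_top_right]
    have h2 : (P ⊔ ρ.ker).index ∣ P.index := Subgroup.index_dvd_of_le le_sup_left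
    have h3 : 2 ∣ (P.map ρ).relIndex ρ.range := h
    rw [h1] at h3
    exact h3.trans h2
  have hsy : ∀ E : Subgroup ρ.range, IsPGroup 2 E → ∃ x : ρ.range, ∀ e ∈ E, ((x * e * x⁻¹ : ρ.range) : Equiv.Perm (F × F)) ∈ P.map ρ := by
    intro E hE
    have hPs : IsPGroup 2 ((P.map ρ).subgroupOf ρ.range) := by
      intro x
      obtain ⟨k, hk⟩ := hP2 ⟨x.1.1, x.2⟩
      refine ⟨k, ?_⟩
      apply Subtype.ext
      apply Subtype.ext
      simpa using congrArg (fun y : P.map ρ => (y : Equiv.Perm (F × F))) hk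
    let S : Sylow 2 ρ.range := hPs.toSylow hidx
    obtain ⟨T, hT⟩ := hE.exists_le_sylow
    obtain ⟨x, hx⟩ := MulAction.exists_smul_eq ρ.range T S
    refine ⟨x, fun e he => ?_⟩
    have h1 : x * e * x⁻¹ ∈ ((x • T : Sylow 2 ρ.range) : Subgroup ρ.range) := by
      rw [Sylow.coe_subgroup_smul]
      exact ⟨e, hT he, rfl⟩
    rw [hx] at h1
    exact h1
  refine scalar h4 ρ.range (fun c => hu c) (fun c => hl c) ?_ ?_ hα
  · -- the additive maps form an elementary abelian 2-group
    let E : Subgroup ρ.range :=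
      { carrier := {x | ∃ β ∈ aa ρ.range, (x : Equiv.Perm (F × F)) = up β}
        mul_mem' := by
          rintro x y ⟨β, hβ, hx⟩ ⟨γ, hγ, hy⟩
          exact ⟨β + γ, (aa ρ.range).add_mem hβ hγ, by rw [Subgroup.coe_mul, hx, hy, up_add]⟩
        one_mem' := ⟨0, (aa ρ.range).zero_mem, by rw [up_zero]; rfl⟩
        inv_mem' := by
          rintro x ⟨β, hβ, hx⟩
          refine ⟨-β, (aa ρ.range).neg_mem hβ, ?_⟩
          rw [Subgroup.coe_inv, hx, inv_eq_iff_mul_eq_one, ← up_add, add_neg_cancel, up_zero] }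
    have hE : IsPGroup 2 E := by
      rintro ⟨x, β, hβ, hx⟩
      refine ⟨1, ?_⟩
      apply Subtype.ext
      apply Subtype.ext
      show ((x : Equiv.Perm (F × F))) ^ (2 ^ 1) = 1
      rw [pow_one, pow_two, hx, ← up_add]
      have : β + β = 0 := by
        ext z
        exact CharTwo.add_self_eq_zero _
      rw [this, up_zero]
    obtain ⟨x, hx⟩ := hsy E hE
    have hf : ∀ β : aa ρ.range, (x : Equiv.Perm (F × F)) * up β.1 * (x : Equiv.Perm (F × F))⁻¹ ∈ P.map ρ := by
      intro β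
      exact hx ⟨up β.1, β.2⟩ ⟨β.1, β.2, rfl⟩
    refine le_trans (Nat.card_le_card_of_injective (fun β : aa ρ.range => (⟨_, hf β⟩ : P.map ρ)) ?_) hc
    intro β γ h
    have h1 := congrArg Subtype.val h
    simp only [mul_left_inj, mul_right_inj] at h1
    exact Subtype.ext (up_injective h1)
  · intro _ g hg h
    have hE : IsPGroup 2 (Subgroup.zpowers (⟨g, hg⟩ : ρ.range)) := by
      rintro ⟨_, k, rfl⟩
      refine ⟨2, ?_⟩
      apply Subtype.ext
      show ((⟨g, hg⟩ : ρ.range) ^ k) ^ (2 ^ 2) = 1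
      rw [← zpow_natCast, ← zpow_mul, mul_comm, zpow_mul, zpow_natCast]
      have : (⟨g, hg⟩ : ρ.range) ^ (2 ^ 2) = 1 := Subtype.ext h
      rw [this, one_zpow]
    obtain ⟨x, hx'⟩ := hsy _ hE
    obtain ⟨p, hp, hpx⟩ := hx' _ (Subgroup.mem_zpowers _)
    have h1 := hx p hp
    rw [hpx] at h1
    have h2 : (x : Equiv.Perm (F × F)) * (g * g) * (x : Equiv.Perm (F × F))⁻¹ = 1 := by
      rw [← h1]
      simp only [Subgroup.coe_mul, Subgroup.coe_inv]
      group
    rw [mul_inv_eq_one, mul_eq_left] at h2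
    rw [pow_two, h2]

end Cfsg.Agent.Omega.IId.CvNS.LinE
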