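import Mathlib.GroupTheory.Sylow
import Mathlib.GroupTheory.PGroup
import Mathlib.Algebra.CharP.Two
import Mathlib.FieldTheory.Finite.Basic
import Mathlib.Tactic

/-!
# II.d, `CvNonsplit`, all `k ≥ 2`: OPPOSITE TRANSVECTION GROUPS (helper78, bb #20998), abstract part

`Dat M Y e f g n κ` : `Y` elementary abelian, normalised by `M`; `e, g : F → Y` additive and independent, `M` centralises
`e(F)`; `f : F → M` acts on `Y` by `y ↦ y e(w t²) g(w t)`, `t = t(y)`; `n ∈ M` with `t(n g(x) n⁻¹) = κ x` and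
`n² g(x) n⁻² ∈ g(x) e(F)`.  (`M = C_G(Z₁)`, `Z₁ = e(F)`, `Y = Ω₁(Z(O₂(M)))`, `U₁ = g(F)`, `f(F) ⊆ N₁`, `n` a Weyl element of
`E'¹`.)

* `exists_conj_comm` : `B` finite, `T ≥ [B, B]` a 2-group, `k, h` `r`-elements, `r` odd: some conjugate of `k` commutes
  with `h`;
* `Dat.main` : an `r`-element `h ∈ M` commuting with `f(F)`, `g(F)`, `r ∣ |F| - 1` odd; then some `x ∈ M` commutes with
  `[Y, h]` and `x g(1) x⁻¹` is not centralised by `f(F)`.
-/

set_option autoImplicit false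
set_option linter.unusedSectionVars false
set_option linter.unusedVariables false

namespace Cfsg.Agent.Omega.IId.CvNS.Opp

open Subgroup

universe u

/-! ### The group theoretic lemma -/

theorem eq_one_of_two {B : Type*} [Group B] {r : ℕ} (hr : r.Prime) (h2 : r ≠ 2) {c : B} {i j : ℕ}
    (h1 : c ^ 2 ^ i = 1) (h3 : c ^ r ^ j = 1) : c = 1 := by
  have hc : Nat.Coprime (2 ^ i) (r ^ j) :=
    Nat.Coprime.pow _ _ ((Nat.coprime_primes Nat.prime_two hr).2 (Ne.symm h2))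
  have h4 : orderOf c ∣ Nat.gcd (2 ^ i) (r ^ j) :=
    Nat.dvd_gcd (orderOf_dvd_of_pow_eq_one h1) (orderOf_dvd_of_pow_eq_one h3)
  rw [hc] at h4
  exact orderOf_eq_one_iff.1 (Nat.dvd_one.1 h4)

theorem exists_conj_comm {B : Type*} [Group B] [Finite B] (T : Subgroup B) (hT : IsPGroup 2 T)
    (hc : ∀ a b : B, a * b * a⁻¹ * b⁻¹ ∈ T) {r : ℕ} (hr : r.Prime) (h2 : r ≠ 2) (k h : B)
    (hk : ∃ i, k ^ r ^ i = 1) (hh : ∃ i, h ^ r ^ i = 1) :
    ∃ w : B, (w * k * w⁻¹) * h = h * (w * k * w⁻¹) := by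
  have hf : Fact r.Prime := ⟨hr⟩
  have key : ∀ x : B, (∃ i, x ^ r ^ i = 1) → ∃ R : Sylow r B, x ∈ R := by
    rintro x ⟨i, hi⟩
    have h1 : IsPGroup r (zpowers x) := by
      rw [IsPGroup]
      rintro ⟨y, hy⟩
      obtain ⟨j, rfl⟩ := mem_zpowers_iff.1 hy
      refine ⟨i, Subtype.ext ?_⟩
      change (x ^ j) ^ r ^ i = 1
      rw [← zpow_natCast, ← zpow_mul, mul_comm, zpow_mul, zpow_natCast, hi, one_zpow]
    obtain ⟨R, hR⟩ := h1.exists_le_sylow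
    exact ⟨R, hR (mem_zpowers x)⟩
  obtain ⟨R, hR⟩ := key h hh
  obtain ⟨R', hR'⟩ := key k hk
  obtain ⟨w, hw⟩ := MulAction.exists_smul_eq B R' R
  have h1 : w * k * w⁻¹ ∈ R := by
    rw [← hw]
    exact ⟨k, hR', rfl⟩
  refine ⟨w, ?_⟩
  set c := (w * k * w⁻¹) * h * (w * k * w⁻¹)⁻¹ * h⁻¹ with hcdef
  have h3 : c ∈ R := R.mul_mem (R.mul_mem (R.mul_mem h1 hR) (R.inv_mem h1)) (R.inv_mem hR)
  have h4 : c ∈ T := hc _ _
  obtain ⟨i, hi⟩ := hT ⟨c, h4⟩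
  obtain ⟨j, hj⟩ := R.isPGroup' ⟨c, h3⟩
  have h5 : c = 1 := eq_one_of_two hr h2 (congrArg Subtype.val hi) (congrArg Subtype.val hj)
  have h6 : (w * k * w⁻¹) * h = c * (h * (w * k * w⁻¹)) := by rw [hcdef]; group
  rw [h6, h5, one_mul]

/-- The same with `T` normal, `[k, h] ∈ T`. -/
theorem exists_conj_comm' {B : Type*} [Group B] [Finite B] (T : Subgroup B) [hn : T.Normal] (hT : IsPGroup 2 T)
    {r : ℕ} (hr : r.Prime) (h2 : r ≠ 2) (k h : B) (hc : k * h * k⁻¹ * h⁻¹ ∈ T)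
    (hk : ∃ i, k ^ r ^ i = 1) (hh : ∃ i, h ^ r ^ i = 1) :
    ∃ w : B, (w * k * w⁻¹) * h = h * (w * k * w⁻¹) := by
  let q : B →* B ⧸ T := QuotientGroup.mk' T
  have hq : ∀ x, q x = 1 ↔ x ∈ T := fun x => QuotientGroup.eq_one_iff x
  set C : Subgroup (B ⧸ T) := closure {q k, q h} with hC
  have hkh : q k * q h = q h * q k := by
    have h1 := (hq _).2 hc
    rw [map_mul, map_mul, map_mul, map_inv, map_inv] at h1
    calc q k * q h = (q k * q h * (q k)⁻¹ * (q h)⁻¹) * (q h * q k) := by group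
      _ = q h * q k := by rw [h1, one_mul]
  have hcomm : ∀ a ∈ C, ∀ b ∈ C, a * b = b * a := by
    have h3 : ∀ x ∈ ({q k, q h} : Set (B ⧸ T)), ∀ y ∈ ({q k, q h} : Set (B ⧸ T)), x * y = y * x := by
      rintro x (rfl | rfl) y (rfl | rfl)
      · rfl
      · exact hkh
      · exact hkh.symm
      · rfl
    have h1 : C ≤ centralizer (C : Set (B ⧸ T)) := by
      rw [hC, centralizer_closure, closure_le]
      intro x hx
      exact mem_centralizer_iff.2 fun y hy => h3 y hy x hx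
    intro a ha b hb
    exact mem_centralizer_iff.1 (h1 hb) a ha
  set B' : Subgroup B := C.comap q with hB'
  have hTB : T ≤ B' := fun x hx => by
    rw [hB', mem_comap, (hq x).2 hx]
    exact one_mem _
  have hkB : k ∈ B' := subset_closure (Or.inl rfl)
  have hhB : h ∈ B' := subset_closure (Or.inr rfl)
  have hT' : IsPGroup 2 (T.subgroupOf B') := by
    rintro ⟨⟨x, hx⟩, hx'⟩
    obtain ⟨i, hi⟩ := hT ⟨x, mem_subgroupOf.1 hx'⟩
    have h3 : x ^ 2 ^ i = 1 := congrArg Subtype.val hi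
    exact ⟨i, Subtype.ext (Subtype.ext h3)⟩
  have hc' : ∀ a b : B', a * b * a⁻¹ * b⁻¹ ∈ T.subgroupOf B' := by
    intro a b
    rw [mem_subgroupOf]
    change (a : B) * b * (a : B)⁻¹ * (b : B)⁻¹ ∈ T
    rw [← hq, map_mul, map_mul, map_mul, map_inv, map_inv, hcomm _ a.2 _ b.2]
    group
  obtain ⟨i, hi⟩ := hk
  obtain ⟨j, hj⟩ := hh
  obtain ⟨w, hw⟩ := exists_conj_comm (T.subgroupOf B') hT' hc' hr h2 ⟨k, hkB⟩ ⟨h, hhB⟩
    ⟨i, Subtype.ext hi⟩ ⟨j, Subtype.ext hj⟩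
  exact ⟨w, congrArg Subtype.val hw⟩

/-! ### The configuration -/

variable {G : Type u} [Group G] {F : Type} [Field F]

/-- The configuration. -/
structure Dat (M Y : Subgroup G) (e f g : F → G) (n : G) (κ : F) : Prop where
  nor : ∀ m ∈ M, ∀ y ∈ Y, m * y * m⁻¹ ∈ Y
  ab : ∀ x ∈ Y, ∀ y ∈ Y, x * y = y * x
  sq : ∀ x ∈ Y, x * x = 1
  eY : ∀ x, e x ∈ Y
  gY : ∀ x, g x ∈ Y
  e_add : ∀ x y, e (x + y) = e x * e y
  g_add : ∀ x y, g (x + y) = g x * g y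
  ind : ∀ x y, e x * g y = 1 → x = 0 ∧ y = 0
  eM : ∀ m ∈ M, ∀ x, m * e x * m⁻¹ = e x
  fM : ∀ w, f w ∈ M
  fg : ∀ w x, f w * g x * (f w)⁻¹ = g x
  act : ∀ y ∈ Y, ∃ t, ∀ w, f w * y * (f w)⁻¹ = y * (e (w * t ^ 2) * g (w * t))
  nM : n ∈ M
  tn : ∀ x w, f w * (n * g x * n⁻¹) * (f w)⁻¹ = n * g x * n⁻¹ * (e (w * (κ * x) ^ 2) * g (w * (κ * x)))
  nn : ∀ x, ∃ z, n * (n * g x * n⁻¹) * n⁻¹ = g x * e z
  κ0 : κ ≠ 0

open Classical in
/-- The parameter of `y`. -/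
noncomputable def tt (e f g : F → G) (y : G) : F :=
  if h : ∃ t, ∀ w, f w * y * (f w)⁻¹ = y * (e (w * t ^ 2) * g (w * t)) then h.choose else 0

/-- The second parameter. -/
noncomputable def ts (e f g : F → G) (n y : G) : F := tt e f g (n⁻¹ * y * n)

namespace Dat

variable {M Y : Subgroup G} {e f g : F → G} {n : G} {κ : F} (D : Dat M Y e f g n κ)

include D

theorem e_zero : e 0 = 1 := by
  have h := D.e_add 0 0
  rw [add_zero] at h
  exact (mul_eq_left.1 h.symm)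

theorem g_zero : g 0 = 1 := by
  have h := D.g_add 0 0
  rw [add_zero] at h
  exact (mul_eq_left.1 h.symm)

theorem inv_eq {y : G} (hy : y ∈ Y) : y⁻¹ = y := inv_eq_of_mul_eq_one_left (D.sq y hy)

theorem nor' {m : G} (hm : m ∈ M) {y : G} (hy : y ∈ Y) : m⁻¹ * y * m ∈ Y := by
  have := D.nor m⁻¹ (inv_mem hm) y hy
  rwa [inv_inv] at this

variable [CharP F 2]

theorem tt_eq {y : G} {t : F} (h : ∀ w, f w * y * (f w)⁻¹ = y * (e (w * t ^ 2) * g (w * t))) :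
    tt e f g y = t := by
  have hex : ∃ t, ∀ w, f w * y * (f w)⁻¹ = y * (e (w * t ^ 2) * g (w * t)) := ⟨t, h⟩
  have h1 : tt e f g y = hex.choose := by rw [tt, dif_pos hex]
  have h2 := hex.choose_spec 1
  rw [← h1, h 1] at h2
  simp only [one_mul] at h2
  set s := tt e f g y with hs
  have h3 := mul_left_cancel h2
  have h4 : e (t ^ 2 + s ^ 2) * g (t + s) = 1 := by
    rw [D.e_add, D.g_add]
    calc e (t ^ 2) * e (s ^ 2) * (g t * g s) = (e (t ^ 2) * g t) * (e (s ^ 2) * g s) := by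
          rw [mul_assoc, mul_assoc, ← mul_assoc (e (s ^ 2)), D.ab _ (D.eY (s ^ 2)) _ (D.gY t), mul_assoc]
      _ = (e (s ^ 2) * g s) * (e (s ^ 2) * g s) := by rw [h3]
      _ = 1 := D.sq _ (mul_mem (D.eY _) (D.gY _))
  have h5 := (D.ind _ _ h4).2
  exact (CharTwo.add_eq_zero.1 h5).symm

theorem tt_spec {y : G} (hy : y ∈ Y) (w : F) :
    f w * y * (f w)⁻¹ = y * (e (w * tt e f g y ^ 2) * g (w * tt e f g y)) := by
  obtain ⟨t, ht⟩ := D.act y hy
  rw [D.tt_eq ht]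
  exact ht w

theorem tt_mul {x y : G} (hx : x ∈ Y) (hy : y ∈ Y) : tt e f g (x * y) = tt e f g x + tt e f g y := by
  refine D.tt_eq fun w => ?_
  set s := tt e f g x
  set t := tt e f g y
  have e1 : f w * (x * y) * (f w)⁻¹ = (f w * x * (f w)⁻¹) * (f w * y * (f w)⁻¹) := by group
  rw [e1, D.tt_spec hx, D.tt_spec hy]
  have h2 : w * (s + t) ^ 2 = w * s ^ 2 + w * t ^ 2 := by rw [CharTwo.add_sq]; ring
  rw [h2, mul_add, D.e_add, D.g_add]
  have c1 := D.ab _ (D.eY (w * s ^ 2)) y hy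
  have c2 := D.ab _ (D.gY (w * s)) y hy
  have c3 := D.ab _ (D.gY (w * s)) _ (D.eY (w * t ^ 2))
  calc x * (e (w * s ^ 2) * g (w * s)) * (y * (e (w * t ^ 2) * g (w * t)))
      = x * (e (w * s ^ 2) * (g (w * s) * y) * (e (w * t ^ 2) * g (w * t))) := by group
    _ = x * ((e (w * s ^ 2) * y) * (g (w * s) * e (w * t ^ 2)) * g (w * t)) := by rw [c2]; group
    _ = x * y * (e (w * s ^ 2) * e (w * t ^ 2) * (g (w * s) * g (w * t))) := by rw [c1, c3]; group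

theorem tt_e (x : F) : tt e f g (e x) = 0 := by
  refine D.tt_eq fun w => ?_
  rw [zero_pow two_ne_zero, mul_zero, D.e_zero, D.g_zero, mul_one, mul_one, D.eM _ (D.fM w)]

theorem tt_g (x : F) : tt e f g (g x) = 0 := by
  refine D.tt_eq fun w => ?_
  rw [zero_pow two_ne_zero, mul_zero, D.e_zero, D.g_zero, mul_one, mul_one, D.fg]

theorem tt_u (x : F) : tt e f g (n * g x * n⁻¹) = κ * x := D.tt_eq fun w => D.tn x w

theorem tt_n (y : G) : ts e f g n (n * y * n⁻¹) = tt e f g y := by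
  rw [ts]; congr 1; group

theorem ts_mul {x y : G} (hx : x ∈ Y) (hy : y ∈ Y) :
    ts e f g n (x * y) = ts e f g n x + ts e f g n y := by
  rw [ts, ts, ts, ← D.tt_mul (D.nor' D.nM hx) (D.nor' D.nM hy)]
  congr 1; group

theorem ts_e (x : F) : ts e f g n (e x) = 0 := by
  rw [ts]
  have h := D.eM _ (inv_mem D.nM) x
  rw [inv_inv] at h
  rw [h, D.tt_e]

theorem ts_g (x : F) : ts e f g n (g x) = κ * x := by
  obtain ⟨z, hz⟩ := D.nn x
  have h1 := D.tt_n (n * g x * n⁻¹)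
  rw [hz, D.ts_mul (D.gY x) (D.eY z), D.ts_e, add_zero, D.tt_u] at h1
  exact h1

theorem ts_u (x : F) : ts e f g n (n * g x * n⁻¹) = 0 := by rw [D.tt_n, D.tt_g]

/-- `y` commutes with `f(F)` iff `t(y) = 0` -/
theorem comm_iff {y : G} (hy : y ∈ Y) : (∀ w, f w * y = y * f w) ↔ tt e f g y = 0 := by
  constructor
  · intro h
    refine D.tt_eq fun w => ?_
    rw [zero_pow two_ne_zero, mul_zero, D.e_zero, D.g_zero, mul_one, mul_one, h,
      mul_inv_cancel_right]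
  · intro h w
    have h1 := D.tt_spec hy w
    rw [h, zero_pow two_ne_zero, mul_zero, D.e_zero, D.g_zero, mul_one, mul_one] at h1
    exact mul_inv_eq_iff_eq_mul.1 h1

/-- `v = u(a) g(b) e(c)` -/
theorem uY (x : F) : n * g x * n⁻¹ ∈ Y := D.nor n D.nM _ (D.gY x)

omit D [CharP F 2] in
/-- the group `N₁'` -/
theorem _root_.Cfsg.Agent.Omega.IId.CvNS.Opp.swap4 {a b c d : G} (h : b * c = c * b) :
    (a * b) * (c * d) = (a * c) * (b * d) := by
  calc (a * b) * (c * d) = a * (b * c) * d := by group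
    _ = (a * c) * (b * d) := by rw [h]; group

end Dat

/-- `N₁' = { u(a) g(b) e(c) }`. -/
def NP (e g : F → G) (n v : G) : Prop := ∃ a b c, v = (n * g a * n⁻¹) * (g b * e c)

/-- `m` acts on `Y` through the matrix `(a b; c d)` in the coordinates `(t, t')`, and `[Y, m] ≤ N₁'`. -/
structure Act (M Y : Subgroup G) (e f g : F → G) (n m : G) (a b c d : F) : Prop where
  mM : m ∈ M
  t1 : ∀ y ∈ Y, tt e f g (m * y * m⁻¹) = a * tt e f g y + b * ts e f g n y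
  t2 : ∀ y ∈ Y, ts e f g n (m * y * m⁻¹) = c * tt e f g y + d * ts e f g n y
  com : ∀ y ∈ Y, ∃ v, NP e g n v ∧ m * y * m⁻¹ = y * v
  fix : ∀ y ∈ Y, tt e f g y = 0 → ts e f g n y = 0 → m * y * m⁻¹ = y

namespace Dat

variable {M Y : Subgroup G} {e f g : F → G} {n : G} {κ : F} (D : Dat M Y e f g n κ) [CharP F 2]

include D

theorem NP_Y {v : G} (h : NP e g n v) : v ∈ Y := by
  obtain ⟨a, b, c, rfl⟩ := h
  exact mul_mem (D.uY a) (mul_mem (D.gY b) (D.eY c))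

theorem NP_mul {v v' : G} (h : NP e g n v) (h' : NP e g n v') : NP e g n (v * v') := by
  obtain ⟨a, b, c, rfl⟩ := h
  obtain ⟨a', b', c', rfl⟩ := h'
  refine ⟨a + a', b + b', c + c', ?_⟩
  rw [D.g_add, D.g_add, D.e_add, swap4 (D.ab _ (mul_mem (D.gY b) (D.eY c)) _ (D.uY a')),
    swap4 (D.ab _ (D.eY c) _ (D.gY b'))]
  congr 1
  group

/-- `f(w)` -/
theorem act_f (w : F) : Act M Y e f g n (f w) 1 0 (κ * w) 1 where
  mM := D.fM w
  t1 y hy := by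
    rw [D.tt_spec hy w, D.tt_mul hy (mul_mem (D.eY _) (D.gY _)), D.tt_mul (D.eY _) (D.gY _), D.tt_e, D.tt_g]
    ring
  t2 y hy := by
    rw [D.tt_spec hy w, D.ts_mul hy (mul_mem (D.eY _) (D.gY _)), D.ts_mul (D.eY _) (D.gY _), D.ts_e, D.ts_g]
    ring
  com y hy := by
    refine ⟨_, ⟨0, w * tt e f g y, w * tt e f g y ^ 2, rfl⟩, ?_⟩
    rw [D.tt_spec hy w, D.g_zero, mul_one, mul_inv_cancel, one_mul, D.ab _ (D.eY _) _ (D.gY _)]
  fix y hy h1 _ := by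
    rw [D.tt_spec hy w, h1, zero_pow two_ne_zero, mul_zero, D.e_zero, D.g_zero, mul_one, mul_one]

/-- `n f(w) n⁻¹` on `Y` -/
theorem fn_spec {y : G} (hy : y ∈ Y) (w : F) : (n * f w * n⁻¹) * y * (n * f w * n⁻¹)⁻¹ =
    y * ((n * g (w * ts e f g n y) * n⁻¹) * e (w * ts e f g n y ^ 2)) := by
  have h1 := D.tt_spec (D.nor' D.nM hy) w
  change _ = _ * (e (w * ts e f g n y ^ 2) * g (w * ts e f g n y)) at h1
  set s := ts e f g n y
  have e1 : (n * f w * n⁻¹) * y * (n * f w * n⁻¹)⁻¹ = n * (f w * (n⁻¹ * y * n) * (f w)⁻¹) * n⁻¹ := by group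
  have e2 : n * (n⁻¹ * y * n * (e (w * s ^ 2) * g (w * s))) * n⁻¹ =
      y * ((n * e (w * s ^ 2) * n⁻¹) * (n * g (w * s) * n⁻¹)) := by group
  rw [e1, h1, e2, D.eM n D.nM, D.ab _ (D.eY _) _ (D.uY _)]

theorem act_fn (w : F) : Act M Y e f g n (n * f w * n⁻¹) 1 (κ * w) 0 1 where
  mM := mul_mem (mul_mem D.nM (D.fM w)) (inv_mem D.nM)
  t1 y hy := by
    rw [D.fn_spec hy w, D.tt_mul hy (mul_mem (D.uY _) (D.eY _)), D.tt_mul (D.uY _) (D.eY _), D.tt_e, D.tt_u]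
    ring
  t2 y hy := by
    rw [D.fn_spec hy w, D.ts_mul hy (mul_mem (D.uY _) (D.eY _)), D.ts_mul (D.uY _) (D.eY _), D.ts_e, D.ts_u]
    ring
  com y hy := by
    refine ⟨_, ⟨w * ts e f g n y, 0, w * ts e f g n y ^ 2, rfl⟩, ?_⟩
    rw [D.fn_spec hy w, D.g_zero, one_mul]
  fix y hy _ h1 := by
    rw [D.fn_spec hy w, h1, zero_pow two_ne_zero, mul_zero, D.e_zero, D.g_zero, mul_one, mul_one,
      mul_inv_cancel, mul_one]

theorem act_mul {m m' : G} {a b c d a' b' c' d' : F} (h : Act M Y e f g n m a b c d)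
    (h' : Act M Y e f g n m' a' b' c' d') :
    Act M Y e f g n (m * m') (a * a' + b * c') (a * b' + b * d') (c * a' + d * c') (c * b' + d * d') where
  mM := mul_mem h.mM h'.mM
  t1 y hy := by
    have e1 : m * m' * y * (m * m')⁻¹ = m * (m' * y * m'⁻¹) * m⁻¹ := by group
    rw [e1, h.t1 _ (D.nor m' h'.mM y hy), h'.t1 y hy, h'.t2 y hy]
    ring
  t2 y hy := by
    have e1 : m * m' * y * (m * m')⁻¹ = m * (m' * y * m'⁻¹) * m⁻¹ := by group
    rw [e1, h.t2 _ (D.nor m' h'.mM y hy), h'.t1 y hy, h'.t2 y hy]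
    ring
  com y hy := by
    have e1 : m * m' * y * (m * m')⁻¹ = m * (m' * y * m'⁻¹) * m⁻¹ := by group
    obtain ⟨v', hv', h1⟩ := h'.com y hy
    obtain ⟨v, hv, h2⟩ := h.com _ (D.nor m' h'.mM y hy)
    exact ⟨v' * v, D.NP_mul hv' hv, by rw [e1, h2, h1, mul_assoc]⟩
  fix y hy h1 h2 := by
    have e1 : m * m' * y * (m * m')⁻¹ = m * (m' * y * m'⁻¹) * m⁻¹ := by group
    rw [e1, h'.fix y hy h1 h2, h.fix y hy h1 h2]

/-- the Weyl elements -/
theorem exists_w {a : F} (ha : a ≠ 0) : ∃ m, Act M Y e f g n m 0 a⁻¹ a 0 := by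
  have hκ := D.κ0
  have h1 := D.act_f (a * κ⁻¹)
  have h2 := D.act_fn (a⁻¹ * κ⁻¹)
  have h3 := D.act_mul (D.act_mul h1 h2) h1
  have e0 : (2 : F) = 0 := CharTwo.two_eq_zero
  have k1 : κ * (a * κ⁻¹) = a := by field_simp
  have k2 : κ * (a⁻¹ * κ⁻¹) = a⁻¹ := by field_simp
  rw [k1, k2] at h3
  have e1 : (1 * 1 + 0 * 0) * 1 + (1 * a⁻¹ + 0 * 1) * a = (0 : F) := by
    have : a⁻¹ * a = 1 := inv_mul_cancel₀ ha
    linear_combination this + e0
  have e2 : (1 * 1 + 0 * 0) * 0 + (1 * a⁻¹ + 0 * 1) * 1 = a⁻¹ := by ring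
  have e3 : (a * 1 + 1 * 0) * 1 + (a * a⁻¹ + 1 * 1) * a = a := by
    have : a * a⁻¹ = 1 := mul_inv_cancel₀ ha
    linear_combination a * this + a * e0
  have e4 : (a * 1 + 1 * 0) * 0 + (a * a⁻¹ + 1 * 1) * 1 = (0 : F) := by
    have : a * a⁻¹ = 1 := mul_inv_cancel₀ ha
    linear_combination this + e0
  rw [e1, e2, e3, e4] at h3
  exact ⟨_, h3⟩

/-- the torus -/
theorem exists_k {μ : F} (hμ : μ ≠ 0) : ∃ k, Act M Y e f g n k μ⁻¹ 0 0 μ := by
  obtain ⟨m, hm⟩ := D.exists_w hμ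
  obtain ⟨m', hm'⟩ := D.exists_w (one_ne_zero (α := F))
  have h := D.act_mul hm hm'
  have e1 : 0 * 0 + μ⁻¹ * 1 = μ⁻¹ := by ring
  have e2 : 0 * (1 : F)⁻¹ + μ⁻¹ * 0 = 0 := by ring
  have e3 : μ * 0 + 0 * 1 = 0 := by ring
  have e4 : μ * (1 : F)⁻¹ + 0 * 0 = μ := by rw [inv_one]; ring
  rw [e1, e2, e3, e4] at h
  exact ⟨_, h⟩

theorem act_one : Act M Y e f g n 1 1 0 0 1 where
  mM := one_mem _
  t1 y hy := by rw [one_mul, inv_one, mul_one]; ring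
  t2 y hy := by rw [one_mul, inv_one, mul_one]; ring
  com y hy := ⟨1, ⟨0, 0, 0, by rw [D.g_zero, D.e_zero]; group⟩, by group⟩
  fix y hy _ _ := by group

theorem act_pow {k : G} {μ : F} (h : Act M Y e f g n k μ⁻¹ 0 0 μ) (i : ℕ) :
    Act M Y e f g n (k ^ i) (μ⁻¹ ^ i) 0 0 (μ ^ i) := by
  induction i with
  | zero =>
    rw [pow_zero, pow_zero, pow_zero]
    exact D.act_one
  | succ i ih =>
    have h1 := D.act_mul ih h
    have e1 : μ⁻¹ ^ i * μ⁻¹ + 0 * 0 = μ⁻¹ ^ (i + 1) := by ring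
    have e2 : μ⁻¹ ^ i * 0 + 0 * μ = 0 := by ring
    have e3 : 0 * μ⁻¹ + μ ^ i * 0 = 0 := by ring
    have e4 : 0 * 0 + μ ^ i * μ = μ ^ (i + 1) := by ring
    rw [e1, e2, e3, e4] at h1
    rw [pow_succ]
    exact h1

/-- `k^{2r}` centralises `Y`. -/
theorem pow_fix {k : G} {μ : F} (h : Act M Y e f g n k μ⁻¹ 0 0 μ) {r : ℕ} (hr : μ ^ r = 1) {y : G} (hy : y ∈ Y) :
    k ^ (r + r) * y * (k ^ (r + r))⁻¹ = y := by
  have hr' : μ⁻¹ ^ r = 1 := by rw [inv_pow, hr, inv_one]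
  have h1 := D.act_pow h r
  rw [hr, hr'] at h1
  obtain ⟨v, hv, h2⟩ := h1.com y hy
  have hvY := D.NP_Y hv
  have h3 := h1.t1 y hy
  have h4 := h1.t2 y hy
  rw [h2, D.tt_mul hy hvY] at h3
  rw [h2, D.ts_mul hy hvY] at h4
  have h5 : tt e f g v = 0 := by linear_combination h3
  have h6 : ts e f g n v = 0 := by linear_combination h4
  have h7 := h1.fix v hvY h5 h6
  have e1 : k ^ (r + r) * y * (k ^ (r + r))⁻¹ = k ^ r * (k ^ r * y * (k ^ r)⁻¹) * (k ^ r)⁻¹ := by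
    rw [pow_add]; group
  have e2 : k ^ r * (y * v) * (k ^ r)⁻¹ = (k ^ r * y * (k ^ r)⁻¹) * (k ^ r * v * (k ^ r)⁻¹) := by group
  rw [e1, h2, e2, h2, h7, mul_assoc, D.sq v hvY, mul_one]

end Dat

/-! ### The stabiliser of `R = g(F) e(F)` and of `C_Y(N₁)` -/

/-- `m` normalises `R` and `ker t`, with parameters `α`, `β`. -/
structure JS (M Y : Subgroup G) (e f g : F → G) (m : G) (α β : F) : Prop where
  mM : m ∈ M
  α0 : α ≠ 0
  β0 : β ≠ 0
  mg : ∀ x, ∃ z, m * g x * m⁻¹ = g (α * x) * e z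
  mt : ∀ y ∈ Y, tt e f g (m * y * m⁻¹) = β * tt e f g y

/-- ... and centralises `ker t / R` -/
structure JJ (M Y : Subgroup G) (e f g : F → G) (m : G) (α β : F) : Prop extends JS M Y e f g m α β where
  mid : ∀ y ∈ Y, tt e f g y = 0 → ∃ b c, m * y * m⁻¹ = y * (g b * e c)

namespace Dat

variable {M Y : Subgroup G} {e f g : F → G} {n : G} {κ : F} (D : Dat M Y e f g n κ) [CharP F 2]

include D

theorem e_sq (x : F) : e x * e x = 1 := D.sq _ (D.eY x)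

theorem R_sq (b c : F) : (g b * e c) * (g b * e c) = 1 := D.sq _ (mul_mem (D.gY b) (D.eY c))

theorem R_mul (b c b' c' : F) : (g b * e c) * (g b' * e c') = g (b + b') * e (c + c') := by
  rw [D.g_add, D.e_add, swap4 (D.ab _ (D.eY c) _ (D.gY b'))]

theorem js_mul {m m' : G} {α β α' β' : F} (h : JS M Y e f g m α β) (h' : JS M Y e f g m' α' β') :
    JS M Y e f g (m * m') (α * α') (β * β') where
  mM := mul_mem h.mM h'.mM
  α0 := mul_ne_zero h.α0 h'.α0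
  β0 := mul_ne_zero h.β0 h'.β0
  mg x := by
    obtain ⟨z, hz⟩ := h'.mg x
    obtain ⟨z', hz'⟩ := h.mg (α' * x)
    refine ⟨z' + z, ?_⟩
    have e1 : m * m' * g x * (m * m')⁻¹ = m * (m' * g x * m'⁻¹) * m⁻¹ := by group
    have e2 : m * (g (α' * x) * e z) * m⁻¹ = (m * g (α' * x) * m⁻¹) * (m * e z * m⁻¹) := by group
    rw [e1, hz, e2, hz', D.eM m h.mM, D.e_add, mul_assoc, mul_assoc]
  mt y hy := by
    have e1 : m * m' * y * (m * m')⁻¹ = m * (m' * y * m'⁻¹) * m⁻¹ := by group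
    rw [e1, h.mt _ (D.nor m' h'.mM y hy), h'.mt y hy, mul_assoc]

theorem jj_mul {m m' : G} {α β α' β' : F} (h : JJ M Y e f g m α β) (h' : JJ M Y e f g m' α' β') :
    JJ M Y e f g (m * m') (α * α') (β * β') where
  toJS := D.js_mul h.toJS h'.toJS
  mid y hy h0 := by
    obtain ⟨b, c, h1⟩ := h'.mid y hy h0
    have h2 := D.nor m' h'.mM y hy
    have h3 : tt e f g (m' * y * m'⁻¹) = 0 := by rw [h'.mt y hy, h0, mul_zero]
    obtain ⟨b', c', h4⟩ := h.mid _ h2 h3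
    refine ⟨b + b', c + c', ?_⟩
    have e1 : m * m' * y * (m * m')⁻¹ = m * (m' * y * m'⁻¹) * m⁻¹ := by group
    rw [e1, h4, h1, mul_assoc, D.R_mul]

theorem js_inv {m : G} {α β : F} (h : JS M Y e f g m α β) : JS M Y e f g m⁻¹ α⁻¹ β⁻¹ where
  mM := inv_mem h.mM
  α0 := inv_ne_zero h.α0
  β0 := inv_ne_zero h.β0
  mg x := by
    obtain ⟨z, hz⟩ := h.mg (α⁻¹ * x)
    rw [← mul_assoc, mul_inv_cancel₀ h.α0, one_mul] at hz
    refine ⟨z, ?_⟩
    have h2 : g x = (m * g (α⁻¹ * x) * m⁻¹) * e z := by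
      rw [hz, mul_assoc, D.e_sq, mul_one]
    rw [inv_inv, h2]
    calc m⁻¹ * (m * g (α⁻¹ * x) * m⁻¹ * e z) * m = g (α⁻¹ * x) * (m⁻¹ * e z * m) := by group
      _ = g (α⁻¹ * x) * e z := by
        congr 1
        have h3 := D.eM m⁻¹ (inv_mem h.mM) z
        rwa [inv_inv] at h3
  mt y hy := by
    have e1 : m * (m⁻¹ * y * m⁻¹⁻¹) * m⁻¹ = y := by group
    have h1 := h.mt _ (D.nor m⁻¹ (inv_mem h.mM) y hy)
    rw [e1] at h1
    rw [h1, ← mul_assoc, inv_mul_cancel₀ h.β0, one_mul]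

theorem jj_inv {m : G} {α β : F} (h : JJ M Y e f g m α β) : JJ M Y e f g m⁻¹ α⁻¹ β⁻¹ where
  toJS := D.js_inv h.toJS
  mid y hy h0 := by
    have hy' := D.nor m⁻¹ (inv_mem h.mM) y hy
    have e1 : m * (m⁻¹ * y * m⁻¹⁻¹) * m⁻¹ = y := by group
    have h1 := h.mt _ hy'
    rw [e1, h0] at h1
    have h2 : tt e f g (m⁻¹ * y * m⁻¹⁻¹) = 0 := by
      rcases mul_eq_zero.1 h1.symm with h3 | h3
      · exact absurd h3 h.β0
      · exact h3
    obtain ⟨b, c, h3⟩ := h.mid _ hy' h2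
    rw [e1] at h3
    refine ⟨b, c, ?_⟩
    calc m⁻¹ * y * m⁻¹⁻¹ = m⁻¹ * y * m⁻¹⁻¹ * ((g b * e c) * (g b * e c)) := by rw [D.R_sq, mul_one]
      _ = (m⁻¹ * y * m⁻¹⁻¹ * (g b * e c)) * (g b * e c) := by rw [mul_assoc (m⁻¹ * y * m⁻¹⁻¹)]
      _ = y * (g b * e c) := by rw [← h3]

/-- conjugates by elements of the stabiliser -/
theorem jj_conj {m x : G} {α β γ δ : F} (h : JS M Y e f g m α β) (hx : JJ M Y e f g x γ δ) :
    JJ M Y e f g (m * x * m⁻¹) γ δ where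
  toJS := by
    have h1 := D.js_mul (D.js_mul h hx.toJS) (D.js_inv h)
    have e1 : α * γ * α⁻¹ = γ := by have := h.α0; field_simp
    have e2 : β * δ * β⁻¹ = δ := by have := h.β0; field_simp
    rwa [e1, e2] at h1
  mid y hy h0 := by
    have hy' := D.nor m⁻¹ (inv_mem h.mM) y hy
    have h1 := (D.js_inv h).mt y hy
    rw [h0, mul_zero] at h1
    obtain ⟨b, c, h2⟩ := hx.mid _ hy' h1
    obtain ⟨z, h3⟩ := h.mg b
    refine ⟨α * b, z + c, ?_⟩
    have e1 : m * x * m⁻¹ * y * (m * x * m⁻¹)⁻¹ = m * (x * (m⁻¹ * y * m⁻¹⁻¹) * x⁻¹) * m⁻¹ := by group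
    have e2 : m * (m⁻¹ * y * m⁻¹⁻¹ * (g b * e c)) * m⁻¹ = y * ((m * g b * m⁻¹) * (m * e c * m⁻¹)) := by group
    rw [e1, h2, e2, h3, D.eM m h.mM, D.e_add, mul_assoc (g (α * b))]

theorem jj_one : JJ M Y e f g 1 1 1 where
  mM := one_mem _
  α0 := one_ne_zero
  β0 := one_ne_zero
  mg x := ⟨0, by rw [D.e_zero, one_mul]; group⟩
  mid y hy _ := ⟨0, 0, by rw [D.e_zero, D.g_zero]; group⟩
  mt y hy := by rw [one_mul, inv_one, mul_one, one_mul]

/-- elements with `α = β = 1` act as 2-elements -/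
theorem jj_four {m : G} (h : JJ M Y e f g m 1 1) {y : G} (hy : y ∈ Y) : m ^ 4 * y * (m ^ 4)⁻¹ = y := by
  have key : ∀ {a b : G}, m * (a * b) * m⁻¹ = (m * a * m⁻¹) * (m * b * m⁻¹) := by intro a b; group
  obtain ⟨d, hd⟩ : ∃ d, m * y * m⁻¹ = y * d := ⟨y⁻¹ * (m * y * m⁻¹), by group⟩
  have hdY : d ∈ Y := by
    have : d = y⁻¹ * (m * y * m⁻¹) := by rw [hd]; group
    rw [this]
    exact mul_mem (inv_mem hy) (D.nor m h.mM y hy)
  have h1 := h.mt y hy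
  rw [hd, D.tt_mul hy hdY, one_mul] at h1
  have h2 : tt e f g d = 0 := by linear_combination h1
  obtain ⟨b, c, h3⟩ := h.mid d hdY h2
  obtain ⟨z, h4⟩ := h.mg b
  rw [one_mul] at h4
  have hR : g b * e c ∈ Y := mul_mem (D.gY b) (D.eY c)
  set ρ := g b * e c with hρ
  have h5 : m * ρ * m⁻¹ = ρ * e z := by
    rw [hρ, key, h4, D.eM m h.mM, mul_assoc, mul_assoc, D.ab _ (D.eY z) _ (D.eY c)]
  have h6 : m ^ 2 * y * (m ^ 2)⁻¹ = y * ρ := by
    have e1 : m ^ 2 * y * (m ^ 2)⁻¹ = m * (m * y * m⁻¹) * m⁻¹ := by rw [pow_two]; group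
    rw [e1, hd, key, hd, h3]
    calc y * d * (d * ρ) = y * (d * d) * ρ := by group
      _ = y * ρ := by rw [D.sq d hdY, mul_one]
  have h7 : m ^ 2 * ρ * (m ^ 2)⁻¹ = ρ := by
    have e1 : m ^ 2 * ρ * (m ^ 2)⁻¹ = m * (m * ρ * m⁻¹) * m⁻¹ := by rw [pow_two]; group
    rw [e1, h5, key, h5, D.eM m h.mM, mul_assoc, D.e_sq, mul_one]
  have e1 : m ^ 4 * y * (m ^ 4)⁻¹ = m ^ 2 * (m ^ 2 * y * (m ^ 2)⁻¹) * (m ^ 2)⁻¹ := by
    rw [show (4 : ℕ) = 2 + 2 from rfl, pow_add]; group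
  have e2 : m ^ 2 * (y * ρ) * (m ^ 2)⁻¹ = (m ^ 2 * y * (m ^ 2)⁻¹) * (m ^ 2 * ρ * (m ^ 2)⁻¹) := by group
  rw [e1, h6, e2, h6, h7, mul_assoc, D.sq ρ hR, mul_one]

/-- the torus is in `J` -/
theorem jj_of_act {k : G} {μ : F} (hμ : μ ≠ 0) (h : Act M Y e f g n k μ⁻¹ 0 0 μ) :
    JJ M Y e f g k μ μ⁻¹ where
  mM := h.mM
  α0 := hμ
  β0 := inv_ne_zero hμ
  mg x := by
    obtain ⟨v, hv, h1⟩ := h.com _ (D.gY x)
    have hvY := D.NP_Y hv
    have h2 := h.t1 _ (D.gY x)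
    have h3 := h.t2 _ (D.gY x)
    rw [h1, D.tt_mul (D.gY x) hvY, D.tt_g] at h2
    rw [h1, D.ts_mul (D.gY x) hvY, D.ts_g, D.tt_g] at h3
    obtain ⟨a, b, c, rfl⟩ := hv
    rw [D.tt_mul (D.uY a) (mul_mem (D.gY b) (D.eY c)), D.tt_mul (D.gY b) (D.eY c), D.tt_g, D.tt_e, D.tt_u] at h2
    rw [D.ts_mul (D.uY a) (mul_mem (D.gY b) (D.eY c)), D.ts_mul (D.gY b) (D.eY c), D.ts_g, D.ts_e, D.ts_u] at h3
    have h4 : a = 0 := by
      have : κ * a = 0 := by linear_combination h2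
      rcases mul_eq_zero.1 this with h5 | h5
      · exact absurd h5 D.κ0
      · exact h5
    have h5 : x + b = μ * x := by
      have : κ * (x + b) = κ * (μ * x) := by linear_combination h3
      exact mul_left_cancel₀ D.κ0 this
    refine ⟨c, ?_⟩
    rw [h1, h4, D.g_zero, mul_one, mul_inv_cancel, one_mul, ← mul_assoc, ← D.g_add, h5]
  mid y hy h0 := by
    obtain ⟨v, hv, h1⟩ := h.com y hy
    have hvY := D.NP_Y hv
    have h2 := h.t1 y hy
    rw [h1, D.tt_mul hy hvY, h0] at h2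
    obtain ⟨a, b, c, rfl⟩ := hv
    rw [D.tt_mul (D.uY a) (mul_mem (D.gY b) (D.eY c)), D.tt_mul (D.gY b) (D.eY c), D.tt_g, D.tt_e, D.tt_u] at h2
    have h4 : a = 0 := by
      have : κ * a = 0 := by linear_combination h2
      rcases mul_eq_zero.1 this with h5 | h5
      · exact absurd h5 D.κ0
      · exact h5
    refine ⟨b, c, ?_⟩
    rw [h1, h4, D.g_zero, mul_one, mul_inv_cancel, one_mul]
  mt y hy := by
    rw [h.t1 y hy]; ring

/-- The stabiliser. -/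
def J : Subgroup G where
  carrier := {m | ∃ α β, JS M Y e f g m α β}
  one_mem' := ⟨1, 1, D.jj_one.toJS⟩
  mul_mem' := by
    rintro a b ⟨α, β, h⟩ ⟨α', β', h'⟩
    exact ⟨_, _, D.js_mul h h'⟩
  inv_mem' := by
    rintro a ⟨α, β, h⟩
    exact ⟨_, _, D.js_inv h⟩

/-- The action of `J` on `Y`. -/
def ρ : D.J →* MulAut Y where
  toFun j :=
    { toFun := fun y => ⟨j * y * (j : G)⁻¹, by
        obtain ⟨α, β, h⟩ := j.2
        exact D.nor j h.mM y y.2⟩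
      invFun := fun y => ⟨(j : G)⁻¹ * y * j, by
        obtain ⟨α, β, h⟩ := j.2
        exact D.nor' h.mM y.2⟩
      left_inv := fun y => Subtype.ext (by simp only; group)
      right_inv := fun y => Subtype.ext (by simp only; group)
      map_mul' := fun x y => Subtype.ext (by simp only [coe_mul]; group) }
  map_one' := by
    ext y
    change (1 : G) * y * (1 : G)⁻¹ = y
    group
  map_mul' a b := by
    ext y
    change ((a : G) * b) * y * ((a : G) * b)⁻¹ = a * (b * y * (b : G)⁻¹) * (a : G)⁻¹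
    group

theorem ρ_apply (j : D.J) (y : Y) : ((D.ρ j y : Y) : G) = j * y * (j : G)⁻¹ := rfl

/-- The elements with `α = β = 1`, centralising `ker t / R`. -/
def T0 : Subgroup D.J where
  carrier := {j | JJ M Y e f g (j : G) 1 1}
  one_mem' := D.jj_one
  mul_mem' := by
    intro a b ha hb
    have h := D.jj_mul ha hb
    rwa [mul_one] at h
  inv_mem' := by
    intro a ha
    have h := D.jj_inv ha
    rwa [inv_one] at h

theorem T0_normal : (D.T0).Normal where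
  conj_mem := by
    intro t ht j
    obtain ⟨α, β, h⟩ := j.2
    exact D.jj_conj h ht

/-- **OPPOSITE TRANSVECTION GROUPS.** -/
theorem main [Finite G] {h : G} (hM : h ∈ M) (hf : ∀ w, h * f w = f w * h) (hg : ∀ x, h * g x = g x * h)
    {r : ℕ} (hr : r.Prime) (h2 : r ≠ 2) {j : ℕ} (hh : h ^ r ^ j = 1) {μ : F} (hμ : μ ^ r = 1) (hμ1 : μ ≠ 1) :
    ∃ x ∈ M, (∀ y ∈ Y, x * (y * (h * y * h⁻¹)) = (y * (h * y * h⁻¹)) * x) ∧
      ∃ w, f w * (x * g 1 * x⁻¹) ≠ (x * g 1 * x⁻¹) * f w := by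
  have hμ0 : μ ≠ 0 := by
    rintro rfl
    rw [zero_pow hr.ne_zero] at hμ
    exact zero_ne_one hμ
  -- the torus element `k`, its square
  obtain ⟨k₀, hk₀⟩ := D.exists_k hμ0
  have hk := D.act_pow hk₀ 2
  set k := k₀ ^ 2 with hkdef
  have hk' : Act M Y e f g n k (μ ^ 2)⁻¹ 0 0 (μ ^ 2) := by rwa [inv_pow] at hk
  have hν0 : μ ^ 2 ≠ 0 := pow_ne_zero _ hμ0
  have hν1 : μ ^ 2 ≠ 1 := by
    intro h0
    have h3 : orderOf μ ∣ 2 := orderOf_dvd_of_pow_eq_one h0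
    have h4 : orderOf μ ∣ r := orderOf_dvd_of_pow_eq_one hμ
    have h5 : Nat.Coprime 2 r := (Nat.coprime_primes Nat.prime_two hr).2 (Ne.symm h2)
    have h6 : orderOf μ = 1 := Nat.dvd_one.1 (h5 ▸ Nat.dvd_gcd h3 h4)
    exact hμ1 (orderOf_eq_one_iff.1 h6)
  have hkJ := D.jj_of_act hν0 hk'
  -- `h`
  have hhe : ∀ x, h * e x = e x * h := fun x => mul_inv_eq_iff_eq_mul.1 (D.eM h hM x)
  have hht : ∀ y ∈ Y, tt e f g (h * y * h⁻¹) = tt e f g y := by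
    intro y hy
    refine D.tt_eq fun w => ?_
    have h3 := D.tt_spec hy w
    set t := tt e f g y
    have e1 : f w * (h * y * h⁻¹) * (f w)⁻¹ = h * (f w * y * (f w)⁻¹) * h⁻¹ := by
      have e2 : (f w)⁻¹ * h = h * (f w)⁻¹ := by
        rw [inv_mul_eq_iff_eq_mul, ← mul_assoc, ← hf w, mul_inv_cancel_right]
      have e3 : h⁻¹ * (f w)⁻¹ = (f w)⁻¹ * h⁻¹ := by rw [← mul_inv_rev, ← mul_inv_rev, hf w]
      calc f w * (h * y * h⁻¹) * (f w)⁻¹ = (f w * h) * y * (h⁻¹ * (f w)⁻¹) := by group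
        _ = (h * f w) * y * ((f w)⁻¹ * h⁻¹) := by rw [hf w, e3]
        _ = h * (f w * y * (f w)⁻¹) * h⁻¹ := by group
    have e4 : h * (y * (e (w * t ^ 2) * g (w * t))) * h⁻¹ =
        (h * y * h⁻¹) * ((h * e (w * t ^ 2) * h⁻¹) * (h * g (w * t) * h⁻¹)) := by group
    rw [e1, h3, e4, hhe, hg, mul_inv_cancel_right, mul_inv_cancel_right]
  have hhS : JS M Y e f g h 1 1 :=
    { mM := hM
      α0 := one_ne_zero
      β0 := one_ne_zero
      mg := fun x => ⟨0, by rw [one_mul, D.e_zero, mul_one, hg, mul_inv_cancel_right]⟩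
      mt := fun y hy => by rw [one_mul]; exact hht y hy }
  let hJ : D.J := ⟨h, 1, 1, hhS⟩
  let kJ : D.J := ⟨k, _, _, hkJ.toJS⟩
  -- the image in `Aut(Y)`
  have hTn := D.T0_normal
  let q : D.J →* D.ρ.range := D.ρ.rangeRestrict
  have hqs : Function.Surjective q := D.ρ.rangeRestrict_surjective
  set T : Subgroup D.ρ.range := D.T0.map q with hTdef
  have hTn' : T.Normal := Subgroup.Normal.map hTn q hqs
  have hq1 : ∀ a : D.J, (∀ y ∈ Y, (a : G) * y * (a : G)⁻¹ = y) → q a = 1 := by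
    intro a ha
    apply Subtype.ext
    ext y
    exact ha y y.2
  have hT2 : IsPGroup 2 T := by
    rintro ⟨b, hb⟩
    obtain ⟨t, ht, rfl⟩ := hb
    refine ⟨2, Subtype.ext ?_⟩
    change (q t) ^ (2 ^ 2) = 1
    rw [← map_pow]
    refine hq1 _ fun y hy => ?_
    exact D.jj_four ht hy
  have hcT : q kJ * q hJ * (q kJ)⁻¹ * (q hJ)⁻¹ ∈ T := by
    refine ⟨kJ * hJ * kJ⁻¹ * hJ⁻¹, ?_, by simp only [map_mul, map_inv]⟩
    change JJ M Y e f g (k * h * k⁻¹ * h⁻¹) 1 1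
    have h3 := D.jj_mul hkJ (D.jj_conj hhS (D.jj_inv hkJ))
    have e1 : k * (h * k⁻¹ * h⁻¹) = k * h * k⁻¹ * h⁻¹ := by group
    rwa [e1, mul_inv_cancel₀ hν0, mul_inv_cancel₀ (inv_ne_zero hν0)] at h3
  have hkr : ∃ i, (q kJ) ^ r ^ i = 1 := by
    refine ⟨1, ?_⟩
    rw [pow_one, ← map_pow]
    refine hq1 _ fun y hy => ?_
    change k ^ r * y * (k ^ r)⁻¹ = y
    rw [hkdef, ← pow_mul, two_mul]
    exact D.pow_fix hk₀ hμ hy
  have hhr : ∃ i, (q hJ) ^ r ^ i = 1 := by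
    refine ⟨j, ?_⟩
    rw [← map_pow]
    have : hJ ^ r ^ j = 1 := Subtype.ext hh
    rw [this, map_one]
  obtain ⟨b, hb⟩ := exists_conj_comm' T hT2 hr h2 (q kJ) (q hJ) hcT hkr hhr
  obtain ⟨w, rfl⟩ := hqs b
  obtain ⟨α, β, hw⟩ := w.2
  set c : G := (w : G) * k * (w : G)⁻¹ with hcdef
  have hcJ : JJ M Y e f g c (μ ^ 2) (μ ^ 2)⁻¹ := D.jj_conj hw hkJ
  -- `c` and `h` commute on `Y`
  have hch : ∀ y ∈ Y, c * (h * y * h⁻¹) * c⁻¹ = h * (c * y * c⁻¹) * h⁻¹ := by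
    intro y hy
    have h3 : D.ρ ((w * kJ * w⁻¹) * hJ) ⟨y, hy⟩ = D.ρ (hJ * (w * kJ * w⁻¹)) ⟨y, hy⟩ := by
      have h4 : q ((w * kJ * w⁻¹) * hJ) = q (hJ * (w * kJ * w⁻¹)) := by
        rw [map_mul, map_mul, map_mul, map_inv, hb, map_mul, map_mul, map_mul, map_inv]
      have h5 := congrArg Subtype.val h4
      exact congrArg (fun φ : MulAut Y => φ ⟨y, hy⟩) h5
    have h4 := congrArg Subtype.val h3
    rw [ρ_apply, ρ_apply] at h4
    change (c * h) * y * (c * h)⁻¹ = (h * c) * y * (h * c)⁻¹ at h4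
    calc c * (h * y * h⁻¹) * c⁻¹ = (c * h) * y * (c * h)⁻¹ := by group
      _ = (h * c) * y * (h * c)⁻¹ := h4
      _ = h * (c * y * c⁻¹) * h⁻¹ := by group
  -- `c` centralises `[Y, h]`
  have hcent : ∀ y ∈ Y, c * (y * (h * y * h⁻¹)) * c⁻¹ = y * (h * y * h⁻¹) := by
    intro y hy
    have hhy := D.nor h hM y hy
    set s := y * (h * y * h⁻¹) with hs
    have hsY : s ∈ Y := mul_mem hy hhy
    have hts : tt e f g s = 0 := by
      rw [hs, D.tt_mul hy hhy, hht y hy]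
      exact CharTwo.add_self_eq_zero _
    obtain ⟨b', c', h3⟩ := hcJ.mid s hsY hts
    have hR : g b' * e c' ∈ Y := mul_mem (D.gY b') (D.eY c')
    set z := g b' * e c' with hz
    have hzh : h * z * h⁻¹ = z := by
      have e1 : h * z * h⁻¹ = (h * g b' * h⁻¹) * (h * e c' * h⁻¹) := by rw [hz]; group
      rw [e1, hhe, hg, mul_inv_cancel_right, mul_inv_cancel_right]
    have hy2 : h * y * h⁻¹ = y * s := by
      rw [hs, ← mul_assoc, D.sq y hy, one_mul]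
    -- `v = [y, c]`
    set v := y * (c * y * c⁻¹) with hv
    have hcy := D.nor c hcJ.mM y hy
    have hvY : v ∈ Y := mul_mem hy hcy
    have h4 : h * v * h⁻¹ = v * z := by
      have e1 : h * v * h⁻¹ = (h * y * h⁻¹) * (h * (c * y * c⁻¹) * h⁻¹) := by rw [hv]; group
      have e2 : c * (y * s) * c⁻¹ = (c * y * c⁻¹) * (c * s * c⁻¹) := by group
      rw [e1, ← hch y hy, hy2, e2, h3, hv]
      calc y * s * (c * y * c⁻¹ * (s * z)) = y * (s * (c * y * c⁻¹)) * (s * z) := by group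
        _ = y * ((c * y * c⁻¹) * s) * (s * z) := by rw [D.ab s hsY _ hcy]
        _ = y * (c * y * c⁻¹) * (s * s) * z := by group
        _ = y * (c * y * c⁻¹) * z := by rw [D.sq s hsY, mul_one]
    have h5 : ∀ i : ℕ, h ^ i * v * (h ^ i)⁻¹ = v * z ^ i := by
      intro i
      induction i with
      | zero => simp
      | succ i ih =>
        have e1 : h ^ (i + 1) * v * (h ^ (i + 1))⁻¹ = h * (h ^ i * v * (h ^ i)⁻¹) * h⁻¹ := by
          rw [pow_succ']; group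
        have e2 : h * (v * z ^ i) * h⁻¹ = (h * v * h⁻¹) * (h * z * h⁻¹) ^ i := by
          rw [conj_pow]; group
        rw [e1, ih, e2, h4, hzh, pow_succ', mul_assoc]
    have h6 := h5 (r ^ j)
    rw [hh, inv_one, one_mul, mul_one] at h6
    have h7 : z ^ r ^ j = 1 := mul_eq_left.1 h6.symm
    have h8 : z ^ 2 ^ 1 = 1 := by rw [pow_one, pow_two]; exact D.sq z hR
    have h9 : z = 1 := eq_one_of_two hr h2 h8 h7
    rw [h3, h9, mul_one]
  -- `[Y, h]` is centralised by `w n f(1) n⁻¹ w⁻¹`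
  set x₀ : G := n * f 1 * n⁻¹ with hx₀
  set x : G := (w : G) * x₀ * (w : G)⁻¹ with hx
  have hx₀M : x₀ ∈ M := mul_mem (mul_mem D.nM (D.fM 1)) (inv_mem D.nM)
  have hxM : x ∈ M := mul_mem (mul_mem hw.mM hx₀M) (inv_mem hw.mM)
  refine ⟨x, hxM, ?_, ?_⟩
  · intro y hy
    have hs : y * (h * y * h⁻¹) ∈ Y := mul_mem hy (D.nor h hM y hy)
    have h3 := hcent y hy
    set s := y * (h * y * h⁻¹) with hsdef
    have hs' : (w : G)⁻¹ * s * w ∈ Y := D.nor' hw.mM hs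
    set s' := (w : G)⁻¹ * s * w with hs'def
    have h4 : k * s' * k⁻¹ = s' := by
      calc k * s' * k⁻¹ = (w : G)⁻¹ * (c * s * c⁻¹) * w := by rw [hs'def, hcdef]; group
        _ = s' := by rw [h3]
    have h5 := hk'.t1 s' hs'
    have h6 := hk'.t2 s' hs'
    rw [h4] at h5 h6
    have h7 : tt e f g s' = 0 := by
      have e1 : ((μ ^ 2)⁻¹ + 1) * tt e f g s' = 0 := by
        have e0 : (2 : F) = 0 := CharTwo.two_eq_zero
        linear_combination (-1 : F) * h5 + tt e f g s' * e0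
      rcases mul_eq_zero.1 e1 with h8 | h8
      · exact absurd (inv_eq_one.1 (CharTwo.add_eq_zero.1 h8)) hν1
      · exact h8
    have h8 : ts e f g n s' = 0 := by
      have e1 : (μ ^ 2 + 1) * ts e f g n s' = 0 := by
        have e0 : (2 : F) = 0 := CharTwo.two_eq_zero
        linear_combination (-1 : F) * h6 + ts e f g n s' * e0
      rcases mul_eq_zero.1 e1 with h9 | h9
      · exact absurd (CharTwo.add_eq_zero.1 h9) hν1
      · exact h9
    have h9 := (D.act_fn 1).fix s' hs' h7 h8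
    change x₀ * s' * x₀⁻¹ = s' at h9
    have h10 : x * s * x⁻¹ = s := by
      calc x * s * x⁻¹ = w * (x₀ * s' * x₀⁻¹) * (w : G)⁻¹ := by rw [hx, hs'def]; group
        _ = s := by rw [h9, hs'def]; group
    exact mul_inv_eq_iff_eq_mul.1 h10
  · by_contra hcon
    push Not at hcon
    have hxg : x * g 1 * x⁻¹ ∈ Y := D.nor x hxM _ (D.gY 1)
    have h3 : tt e f g (x * g 1 * x⁻¹) = 0 := (D.comm_iff hxg).1 hcon
    obtain ⟨z, hz⟩ := (D.js_inv hw).mg 1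
    rw [inv_inv, mul_one] at hz
    have hzY : g α⁻¹ * e z ∈ Y := mul_mem (D.gY _) (D.eY z)
    have e1 : x * g 1 * x⁻¹ = w * (x₀ * (g α⁻¹ * e z) * x₀⁻¹) * (w : G)⁻¹ := by
      rw [← hz, hx]; group
    rw [e1, hw.mt _ (D.nor x₀ hx₀M _ hzY)] at h3
    have h4 := (D.act_fn 1).t1 _ hzY
    change tt e f g (x₀ * _ * x₀⁻¹) = _ at h4
    rw [h4, D.tt_mul (D.gY _) (D.eY z), D.tt_g, D.tt_e, D.ts_mul (D.gY _) (D.eY z), D.ts_g, D.ts_e] at h3
    have h5 : β * (κ * (κ * α⁻¹)) = 0 := by linear_combination h3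
    exact mul_ne_zero hw.β0 (mul_ne_zero D.κ0 (mul_ne_zero D.κ0 (inv_ne_zero hw.α0))) h5

end Dat

end Cfsg.Agent.Omega.IId.CvNS.Opp
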