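import Cfsg.Agent.Omega.IId.CvNS.Opp
import Cfsg.Agent.Omega.HOne.NSDat
import Cfsg.Agent.MinSimple.VModule

/-!
# II.d, `CvNonsplit`, all `k ≥ 2`: opposite transvection groups (bb #20998), the plug over `PairF`

`A = N₁`, `A' = N₁'`, `U = U₁ = g(F) = e'(F)`, `U' = U₁' = e(F) = g'(F) = Z₁`; `T = N_S(N₁)`, `L` induces `SL₂(F)` on `A / U`.

* `exists_dat` : `O₂(C_G(U')) ≤ T`, `A' ≤ Ω₁ Z(O₂(C_G(U')))` give `Opp.Dat`;
* `false_of` : in addition an `r`-element `h` (`r ∣ |F| - 1` an odd prime) centralising `A` and `Z₂ ≤ [Ω₁ Z(O₂(C_G(U'))), h]`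
  with `A ≤ Ω₁ Z(O₂(N_G(Z₂)))`: contradiction.
-/

set_option autoImplicit false
set_option linter.unusedSectionVars false
set_option linter.unusedVariables false

namespace Cfsg.Agent.Omega.IId.CvNS.OppBase

open Subgroup Cfsg.Agent.Lib.SL2Mat
open Cfsg.Agent.ZN (zc o2)
open Cfsg.Agent.MinSimple.VModule (mem_zc zc_le zc_sq o2_le o2_isPGroup le_normalizer_o2 le_o2)
open Cfsg.Agent.Omega.NatPair (ap ap_add ap_mul ap_one ap_inj ext2 ap_zero' ap_one' ap_inv_ap ap_ap_inv)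
open Cfsg.Agent.Omega.HOne.NSMod Cfsg.Agent.Omega.HOne.NSSide Cfsg.Agent.Omega.HOne.NSPair Cfsg.Agent.Omega.HOne.NSDat
open Cfsg.Agent.Omega.IId.CvNS.Opp (Dat)

universe u

variable {G : Type u} [Group G] {F : Type} [Field F]

/-- conjugation on `Ω₁ Z(O₂(H))` -/
theorem zc_conj {H : Subgroup G} {m : G} (hm : m ∈ H) {a : G} (ha : a ∈ zc (o2 H)) : m * a * m⁻¹ ∈ zc (o2 H) := by
  have h3 := mem_zc.1 ha
  have hn := le_normalizer_o2 H hm
  refine mem_zc.2 ⟨(mem_normalizer_iff.1 hn a).1 h3.1, fun x hx => ?_, ?_⟩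
  · have h4 : m⁻¹ * x * m ∈ o2 H := by
      have := (mem_normalizer_iff.1 (inv_mem hn) x).1 hx
      rwa [inv_inv] at this
    have h5 := h3.2.1 _ h4
    change x * (m * a * m⁻¹) = m * a * m⁻¹ * x
    calc x * (m * a * m⁻¹) = m * ((m⁻¹ * x * m) * a) * m⁻¹ := by group
      _ = m * (a * (m⁻¹ * x * m)) * m⁻¹ := by rw [h5]
      _ = m * a * m⁻¹ * x := by group
  · calc (m * a * m⁻¹) ^ 2 = m * a ^ 2 * m⁻¹ := by rw [pow_two, pow_two]; group
      _ = 1 := by rw [h3.2.2]; group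

variable {T T' L L' A A' U U' : Subgroup G} {π π' : G → Fin 2 → F} {e f g e' f' g' : F → G}

/-- The linearity: `ψ(θ x) = ψ(θ 1) x`. -/
theorem lin [Finite F] (p : PairF T T' L L' A A' U U' π π' e f g e' f' g' A A')
    (c1 : ∀ z, ∃ y, e z = g' y) (c2 : ∀ z, ∃ y, e' z = g y) (g1 : ∀ y, g y = 1 → y = 0)
    (g1' : ∀ y, g' y = 1 → y = 0) {ψ θ : F → F} (hψ : ∀ c, Is L A U π (f' c) (lo (ψ c ^ 2)))
    (hψi : Function.Injective ψ) (hθ : ∀ x, g x = e' (θ x)) : ∀ x, ψ (θ x) = ψ (θ 1) * x := by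
  obtain ⟨φ, hφ, hφa, hφi⟩ := p.symm.exists_psi
  have hgi : ∀ x y, g x = g y → x = y := by
    intro x y h
    have h1 : g (x - y) = 1 := by
      have h2 := p.φ.g_add (x - y) y
      rw [sub_add_cancel, h] at h2
      exact (mul_eq_right.1 h2.symm)
    exact sub_eq_zero.1 (g1 _ h1)
  have hθi : Function.Injective θ := fun x y h => hgi x y (by rw [hθ, hθ, h])
  have hθs : Function.Surjective θ := Finite.surjective_of_injective hθi
  have hθ0 : θ 0 = 0 := by
    have h1 := hθ 0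
    rw [p.φ.g0] at h1
    have h2 : e' (θ 0) = e' 0 := by rw [← h1, p.φ'.e0]
    exact p.φ'.e_inj p.s'.r h2
  have hψs : Function.Surjective ψ := Finite.surjective_of_injective hψi
  have key : ∀ b c, θ (ψ c * b) = φ b ^ 2 * c := by
    intro b c
    have h1 := p.comm_eq hψ hφ b c
    obtain ⟨y, hy⟩ := c1 (ψ c ^ 2 * b)
    rw [hy, hθ] at h1
    have h2 : e' (θ (ψ c * b)) * g' y = e' (φ b ^ 2 * c) * g' (φ b * c) := by
      rw [← h1]
      exact p.s'.r.Vc _ (p.φ'.eV _) _ (p.φ'.gV p.s'.r _)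
    exact (p.φ'.eg_inj p.s'.r h2).1
  have hψ1 : ψ (θ 1) ≠ 0 := by
    intro h0
    have h1 : ψ 0 = 0 := by
      obtain ⟨c, hc⟩ := hψs 0
      have h3 := key 1 c
      rw [hc, zero_mul, hθ0] at h3
      have h4 : φ 1 ≠ 0 := by
        intro h5
        have h6 : φ 0 = 0 := by
          have := hφa 0 0
          rw [add_zero] at this
          exact left_eq_add.1 this
        exact one_ne_zero (hφi (h5.trans h6.symm))
      rcases mul_eq_zero.1 h3.symm with h5 | h5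
      · exact absurd (pow_eq_zero_iff two_ne_zero |>.1 h5) h4
      · rw [h5] at hc; exact hc
    have h2 : θ 1 = 0 := hψi (h0.trans h1.symm)
    exact one_ne_zero (hθi (h2.trans hθ0.symm))
  intro x
  set b := (ψ (θ 1))⁻¹ with hb
  have h1 := key b (θ 1)
  rw [hb, mul_inv_cancel₀ hψ1, ← hb] at h1
  have hθ1 : θ 1 ≠ 0 := fun h => one_ne_zero (hθi (h.trans hθ0.symm))
  have h2 : φ b ^ 2 = 1 := by
    have : φ b ^ 2 * θ 1 = 1 * θ 1 := by rw [one_mul]; exact h1.symm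
    exact mul_right_cancel₀ hθ1 this
  have h3 := key b (θ x)
  rw [h2, one_mul] at h3
  have h4 := hθi h3
  rw [hb] at h4
  field_simp at h4
  rw [h4, mul_comm]

/-- `y v y⁻¹ = E v` and `y² = 1` give `v y v⁻¹ = y E`. -/
theorem flip {y v E : G} (hy : y * y = 1) (h : y * v * y⁻¹ = E * v) : v * y * v⁻¹ = y * E := by
  have h1 : y⁻¹ = y := inv_eq_of_mul_eq_one_left hy
  have h2 : E = y * v * y⁻¹ * v⁻¹ := by rw [h]; group
  rw [h2, h1]
  calc v * y * v⁻¹ = (y * y) * v * y * v⁻¹ := by rw [hy, one_mul]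
    _ = y * (y * v * y * v⁻¹) := by group

/-- **The configuration.** -/
theorem exists_dat [Finite F] (p : PairF T T' L L' A A' U U' π π' e f g e' f' g' A A')
    (c1 : ∀ z, ∃ y, e z = g' y) (c2 : ∀ z, ∃ y, e' z = g y) (g1 : ∀ y, g y = 1 → y = 0)
    (g1' : ∀ y, g' y = 1 → y = 0) (hT : o2 (centralizer (U' : Set G)) ≤ T)
    (hA' : A' ≤ zc (o2 (centralizer (U' : Set G)))) :
    ∃ (n : G) (κ : F), Dat (centralizer (U' : Set G)) (zc (o2 (centralizer (U' : Set G)))) e f g n κ := by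
  have r := p.s.r
  have r' := p.s'.r
  have φ := p.φ
  have φ' := p.φ'
  set M := centralizer (U' : Set G) with hM
  have two := r.two
  -- `U' = e(F)`
  have heU' : ∀ z, e z ∈ U' := by
    intro z
    obtain ⟨y, hy⟩ := c1 z
    rw [hy]; exact φ'.gD y
  have hU' : ∀ x ∈ U', ∃ z, x = e z := by
    intro x hx
    obtain ⟨y, rfl⟩ := φ'.ND x (r'.DV hx) hx
    choose k hk using c1
    have hi : Function.Injective k := by
      intro z z' hz
      have h1 := hk z
      rw [hz, ← hk z'] at h1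
      exact φ.e_inj r h1
    obtain ⟨z, rfl⟩ := Finite.surjective_of_injective hi y
    exact ⟨z, (hk z).symm⟩
  have heM : ∀ m ∈ M, ∀ x, m * e x * m⁻¹ = e x := by
    intro m hm x
    rw [← mem_centralizer_iff.1 hm _ (heU' x), mul_inv_cancel_right]
  have hAM : A ≤ M := by
    intro a ha
    refine mem_centralizer_iff.2 fun x hx => ?_
    obtain ⟨z, rfl⟩ := hU' x hx
    exact r.Vc _ (φ.eV z) a ha
  have hsq : ∀ x ∈ zc (o2 M), x * x = 1 := fun x hx => by rw [← pow_two]; exact zc_sq _ _ hx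
  -- `g(F) ≤ A'`
  obtain ⟨heA', hgA'⟩ := p.eg_mem
  -- `θ`
  have hcc2 : ∀ x, ∃ z, g x = e' z := by
    choose k hk using c2
    have hi : Function.Injective k := by
      intro z z' hz
      have h1 := hk z
      rw [hz, ← hk z'] at h1
      exact φ'.e_inj r' h1
    intro x
    obtain ⟨z, rfl⟩ := Finite.surjective_of_injective hi x
    exact ⟨z, (hk z).symm⟩
  choose θ hθ using hcc2
  obtain ⟨ψ, hψ, hψa, hψi⟩ := p.exists_psi
  have hlin := lin p c1 c2 g1 g1' hψ hψi hθ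
  obtain ⟨n, hn⟩ := r'.is_lift (wm 1 one_ne_zero)
  have hnM : n ∈ M := mem_centralizer_iff.2 fun d hd => (hn.cen d hd).symm
  have hgV' : ∀ x, g x ∈ A' := hgA'
  have huV : ∀ x, n * g x * n⁻¹ ∈ A' := fun x => r'.Vn n hn.mem _ (hgV' x)
  have hgπ : ∀ x, π' (g x) = ![0, θ x] := fun x => by rw [hθ, φ'.eπ]
  have huπ : ∀ x, π' (n * g x * n⁻¹) = ![θ x, 0] := fun x => by
    rw [hn.act _ (hgV' x), hgπ, ap_wm]
    apply ext2 <;> simp
  -- `u(x) = f'(θ x) e(z)`
  have hu : ∀ x, ∃ z, n * g x * n⁻¹ = f' (θ x) * e z := by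
    intro x
    have h1 : (f' (θ x))⁻¹ * (n * g x * n⁻¹) ∈ U' := by
      refine (r'.ker _ (mul_mem (inv_mem (φ'.fV _)) (huV x))).1 ?_
      rw [r'.mul _ (inv_mem (φ'.fV _)) _ (huV x), r'.map_inv (φ'.fV _), φ'.fπ, huπ]
      simp
    obtain ⟨z, hz⟩ := hU' _ h1
    exact ⟨z, by rw [← hz]; group⟩
  refine ⟨n, ψ (θ 1), ?_⟩
  exact
    { nor := fun m hm y hy => zc_conj hm hy
      ab := fun x hx y hy => (mem_zc.1 hy).2.1 x (zc_le _ hx)
      sq := hsq
      eY := fun x => hA' (heA' x)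
      gY := fun x => hA' (hgA' x)
      e_add := φ.e_add
      g_add := φ.g_add
      ind := by
        intro x y h
        have h1 : e x * g y = e 0 * g 0 := by rw [h, φ.e0, φ.g0, one_mul]
        obtain ⟨h2, h3⟩ := φ.eg_inj r h1
        refine ⟨h2, g1 y ?_⟩
        rw [h3, φ.g0]
      eM := heM
      fM := fun w => hAM (φ.fV w)
      fg := fun w x => by
        rw [r.Vc _ (φ.fV w) _ (φ.gV r x), mul_inv_cancel_right]
      act := by
        intro y hy
        obtain ⟨t, ht⟩ := act_of p (hT (zc_le _ hy)) (fun z => by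
          have := heM y (o2_le _ (zc_le _ hy)) z
          exact mul_inv_eq_iff_eq_mul.1 this)
        refine ⟨t, fun w => ?_⟩
        have h1 := ht (f w) (φ.fV w)
        rw [φ.fπ] at h1
        simp only [Matrix.cons_val_zero] at h1
        have h2 := flip (hsq y hy) h1
        rw [h2, mul_comm (t ^ 2), mul_comm t]
      nM := hnM
      tn := by
        intro x w
        rw [← hlin x]
        obtain ⟨z, hz⟩ := hu x
        refine flip (hsq _ (hA' (huV x))) ?_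
        rw [hz]
        have h1 := φ.act _ _ (hψ (θ x)) _ (φ.fV w)
        rw [φ.fπ] at h1
        simp only [Matrix.cons_val_zero] at h1
        have h2 := r.Vc _ (φ.eV z) _ (φ.fV w)
        calc f' (θ x) * e z * f w * (f' (θ x) * e z)⁻¹ = f' (θ x) * (e z * f w * (e z)⁻¹) * (f' (θ x))⁻¹ := by group
          _ = f' (θ x) * f w * (f' (θ x))⁻¹ := by rw [h2, mul_inv_cancel_right]
          _ = _ := by rw [h1, mul_comm (ψ (θ x) ^ 2), mul_comm (ψ (θ x))]
      nn := by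
        intro x
        have h1 : (g x)⁻¹ * (n * (n * g x * n⁻¹) * n⁻¹) ∈ U' := by
          have h2 := r'.Vn n hn.mem _ (huV x)
          refine (r'.ker _ (mul_mem (inv_mem (hgV' x)) h2)).1 ?_
          rw [r'.mul _ (inv_mem (hgV' x)) _ h2, r'.map_inv (hgV' x), hn.act _ (huV x), huπ, hgπ, ap_wm]
          apply ext2
          · simp
          · have e1 : -θ x + -θ x = 0 := by linear_combination (-θ x) * two
            simpa using e1
        obtain ⟨z, hz⟩ := hU' _ h1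
        exact ⟨z, by rw [← hz]; group⟩
      κ0 := by
        intro h0
        have h1 : ψ 0 = 0 := by
          have := hψa 0 0
          rw [add_zero] at this
          exact left_eq_add.1 this
        have h2 : θ 1 = 0 := hψi (h0.trans h1.symm)
        have h3 := hθ 1
        rw [h2, φ'.e0] at h3
        exact one_ne_zero (g1 1 h3) }

/-- If `h` normalises the finite elementary abelian 2-group `Z` and `C_Z(h) = 1` then `Z = { y (h y h⁻¹) }`. -/
theorem exists_comm [Finite G] {Z : Subgroup G} {h : G} (hab : ∀ x ∈ Z, ∀ y ∈ Z, x * y = y * x)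
    (hn : ∀ z ∈ Z, h * z * h⁻¹ ∈ Z) (hsq : ∀ z ∈ Z, z * z = 1) (hf : ∀ z ∈ Z, h * z = z * h → z = 1) :
    ∀ z ∈ Z, ∃ y ∈ Z, z = y * (h * y * h⁻¹) := by
  intro z hz
  let q : Z → Z := fun y => ⟨y * (h * y * h⁻¹), mul_mem y.2 (hn _ y.2)⟩
  have hi : Function.Injective q := by
    rintro ⟨x, hx⟩ ⟨y, hy⟩ hxy
    have h1 : x * (h * x * h⁻¹) = y * (h * y * h⁻¹) := congrArg Subtype.val hxy
    have h2 : x⁻¹ = x := inv_eq_of_mul_eq_one_left (hsq x hx)
    have h3 : (h * y * h⁻¹)⁻¹ = h * y * h⁻¹ := inv_eq_of_mul_eq_one_left (hsq _ (hn y hy))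
    have h4 : h * (x * y) * h⁻¹ = x * y := by
      calc h * (x * y) * h⁻¹ = x⁻¹ * (x * (h * x * h⁻¹)) * (h * y * h⁻¹) := by group
        _ = x⁻¹ * (y * (h * y * h⁻¹)) * (h * y * h⁻¹) := by rw [h1]
        _ = x⁻¹ * y * ((h * y * h⁻¹) * (h * y * h⁻¹)) := by group
        _ = x * y := by rw [hsq _ (hn y hy), mul_one, h2]
    have h5 := hf _ (mul_mem hx hy) (mul_inv_eq_iff_eq_mul.1 h4)
    have h6 : x = y⁻¹ := eq_inv_of_mul_eq_one_left h5
    apply Subtype.ext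
    change x = y
    rw [h6]
    exact inv_eq_of_mul_eq_one_left (hsq y hy)
  obtain ⟨y, hy⟩ := Finite.surjective_of_injective hi ⟨z, hz⟩
  exact ⟨y, y.2, (congrArg Subtype.val hy).symm⟩

/-- **CvNonsplit is impossible, all `k ≥ 2`** (`Z₂` : the flag of another factor, `h` a torus element of that factor). -/
theorem false_of [Finite G] [Finite F] (p : PairF T T' L L' A A' U U' π π' e f g e' f' g' A A')
    (c1 : ∀ z, ∃ y, e z = g' y) (c2 : ∀ z, ∃ y, e' z = g y) (g1 : ∀ y, g y = 1 → y = 0)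
    (g1' : ∀ y, g' y = 1 → y = 0) (hT : o2 (centralizer (U' : Set G)) ≤ T)
    (hA' : A' ≤ zc (o2 (centralizer (U' : Set G)))) {Z₂ : Subgroup G}
    (hZ : Z₂ ≤ zc (o2 (centralizer (U' : Set G)))) (hfl : A ≤ zc (o2 (normalizer (Z₂ : Set G)))) {h : G}
    (hhA : ∀ a ∈ A, h * a = a * h) (hhZ : ∀ z ∈ Z₂, h * z * h⁻¹ ∈ Z₂) (hhC : ∀ z ∈ Z₂, h * z = z * h → z = 1)
    {r : ℕ} (hr : r.Prime) (h2 : r ≠ 2) {j : ℕ} (hh : h ^ r ^ j = 1) {μ : F} (hμ : μ ^ r = 1) (hμ1 : μ ≠ 1) :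
    False := by
  have : CharP F 2 := CharTwo.of_one_ne_zero_of_two_eq_zero one_ne_zero p.s.r.two
  obtain ⟨n, κ, D⟩ := exists_dat p c1 c2 g1 g1' hT hA'
  have hU'A : U' ≤ A := by
    intro x hx
    obtain ⟨y, rfl⟩ := p.φ'.ND x (p.s'.r.DV hx) hx
    exact p.symm.eg_mem.2 y
  have hM : h ∈ centralizer (U' : Set G) := mem_centralizer_iff.2 fun x hx => (hhA x (hU'A hx)).symm
  obtain ⟨x, hxM, hx, w, hw⟩ := D.main hM (fun w => hhA _ (p.φ.fV w)) (fun y => hhA _ (p.φ.gV p.s.r y)) hr h2 hh hμ hμ1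
  have hsq : ∀ z ∈ Z₂, z * z = 1 := fun z hz => D.sq z (hZ hz)
  have hab : ∀ z ∈ Z₂, ∀ y ∈ Z₂, z * y = y * z := fun z hz y hy => D.ab z (hZ hz) y (hZ hy)
  have hxZ : x ∈ centralizer (Z₂ : Set G) := by
    refine mem_centralizer_iff.2 fun z hz => ?_
    obtain ⟨y, hy, rfl⟩ := exists_comm hab hhZ hsq hhC z hz
    exact (hx y (hZ hy)).symm
  have hxN : x ∈ normalizer (Z₂ : Set G) := by
    refine mem_normalizer_iff.2 fun z => ⟨fun hz => ?_, fun hz => ?_⟩
    · rw [← mem_centralizer_iff.1 hxZ z hz, mul_inv_cancel_right]; exact hz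
    · have h1 := mem_centralizer_iff.1 (inv_mem hxZ) _ hz
      have h3 : z = x * z * x⁻¹ := by
        calc z = x⁻¹ * (x * z * x⁻¹) * x := by group
          _ = (x * z * x⁻¹) * x⁻¹ * x := by rw [← h1]
          _ = x * z * x⁻¹ := by group
      rw [h3]; exact hz
  have h3 := zc_conj hxN (hfl (p.φ.gV p.s.r 1))
  have h4 := zc_le _ (hfl (p.φ.fV w))
  exact hw ((mem_zc.1 h3).2.1 _ h4)

end Cfsg.Agent.Omega.IId.CvNS.OppBase
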