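import Cfsg.Agent.Omega.IId.ThmCQ.NsMain
import Cfsg.Agent.Omega.IId.CvNS.OppBase
import Cfsg.Agent.Omega.IId.Ns.Main

/-!
# II.d, `CvNonsplit`, all `k ≥ 2`, `k' ≥ 1`: the plug

`VZ M` : `Nc M i ≤ Ω₁ Z(O₂(N_G(Uc M i)))` if `Uc M i ≠ 1` (for all `i`).

* `exists_po'` : the dichotomy with the literal coordinates, from `VZ`;
* `false_of_mt` : a matched pair of factors, a second factor `l ≠ i`: contradiction (THEOREM C with `D` = `ThmCQ/NsMain`,
  `OppBase.false_of` = bb #20998);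
* `nonsplit_of` : `CvNonsplit` for `k ≥ 2` or `k' ≥ 2`.
-/

set_option autoImplicit false
set_option linter.unusedSectionVars false
set_option linter.unusedVariables false

namespace Cfsg.Agent.Omega.IId.CvNS.Plug

open Subgroup Cfsg Cfsg.Agent.ZN Cfsg.Agent.ZN.ChoiceSit Cfsg.Agent.ZN.ChoiceBase Cfsg.Agent.Omega.MinPar
open Cfsg.Agent.Omega.FrameFF Cfsg.Agent.Omega.FFThm Cfsg.Agent.Lib.SL2Mat
open Cfsg.Agent.Omega.NatPair (ap ap_add ap_mul ap_one ap_inj ext2 ap_zero' ap_one' ap_inv_ap ap_ap_inv)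
open Cfsg.Agent.Omega.HOne (cv_le conj_mem_zl conj_mem_cv)
open Cfsg.Agent.Omega.HOne.Main (vx SplitPar)
open Cfsg.Agent.Omega.IId.Cv Cfsg.Agent.Omega.IId.Ns
open Cfsg.Agent.Omega.HOne.NSMod Cfsg.Agent.Omega.HOne.NSSide Cfsg.Agent.Omega.HOne.NSPair
open Cfsg.Agent.MinSimple.VModule (oddGen oddGen_le zc_comm zc_sq zc_le mem_zc o2_isPGroup)
open Cfsg.Agent.Omega.FrameMulti (IsNat)
open Cfsg.Agent.Omega.IId.ThmCQ.Nsp (Sit Zf)

universe u

variable {G : Type u} [Group G] [Finite G] {F : Type} [Field F] [Finite F] [CharP F 2]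

/-- (H1b) for `N_i` -/
def VZ {F : Type} [Field F] {S : Sylow 2 G} {P : Subgroup G} {k : ℕ}
    (M : NatK F (S : Subgroup G) P (zl (S : Subgroup G) P) (cv (S : Subgroup G) P) k) : Prop :=
  ∀ i, Uc M i ≠ ⊥ → Nc M i ≤ zc (o2 (normalizer (Uc M i : Set G)))

/-- HALF* ==> `VZ` -/
theorem VZ.of_half (hG : IsCharacteristicTwoType G) {S : Sylow 2 G} {P : Subgroup G} (h : IsParS (S : Subgroup G) P)
    {k : ℕ} {M : NatK F (S : Subgroup G) P (zl (S : Subgroup G) P) (cv (S : Subgroup G) P) k}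
    (hh : ∀ i, Half (Lc M i) (Nc M i)) : VZ M := fun i hi =>
  hh i _ ((Sd.Lc_le_St S M i).trans (Sd.St_norm_Uc M i))
    (MinSimple.Basic.char2_normalizer hG ((S.isPGroup'.to_le (Sd.V_le_S hG S h)).to_le
      (inf_le_left.trans (Nc_le M i))) hi)

variable (hG : IsCharacteristicTwoType G) {S S' : Sylow 2 G} {P P' : Subgroup G} (hp : Pair S S' P P') {k k' : ℕ}
  {M : NatK F (S : Subgroup G) P (zl (S : Subgroup G) P) (cv (S : Subgroup G) P) k}
  {M' : NatK F (S' : Subgroup G) P' (zl (S' : Subgroup G) P') (cv (S' : Subgroup G) P') k'}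
  (hω : ∃ ω : F, ω ≠ 0 ∧ ω ≠ 1)

include hG hp hω in
/-- **The dichotomy**, with the literal coordinates. -/
theorem exists_po' {i : Fin k} {j : Fin k'} (m : Mt M M' i j) (m' : Mt M' M j i)
    (hh : VZ M) (hh' : VZ M')
    (hs : ¬ (SplitPar (S : Subgroup G) P ∧ SplitPar (S' : Subgroup G) P')) :
    ∃ e f g e' f' g', PO M M' i j (Sd.natOver hG S hp.star M hω i).e (Sd.natOver hG S' hp.star' M' hω j).e
      e f g e' f' g' := by
  obtain ⟨e, f, g, e', f', g', p⟩ := exists_pairF hG hp hω m m'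
  rcases p.dich with ⟨h1, h2⟩ | ⟨h1, h2, h3, h4⟩
  · exfalso
    have hU : Uc M i = Uc M' j := by
      apply le_antisymm
      · intro u hu
        obtain ⟨y, rfl⟩ := p.φ.ND u hu.1 hu
        obtain ⟨y', hy'⟩ := h1 y
        rw [hy']; exact p.φ'.gD y'
      · intro u hu
        obtain ⟨y, rfl⟩ := p.φ'.ND u hu.1 hu
        obtain ⟨y', hy'⟩ := h2 y
        rw [hy']; exact p.φ.gD y'
    by_cases h0 : Uc M i = ⊥
    · exact hs ⟨splitPar_of_Uc hG S hp.star h0, splitPar_of_Uc hG S' hp.star' (by rw [← hU]; exact h0)⟩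
    · have a1 := hh i h0
      have a2 := hh' j (by rw [← hU]; exact h0)
      rw [← hU] at a2
      obtain ⟨v, hv, hve⟩ := Nc_ex M i ![0, 1]
      have h5 := (m.cen v (Nc_le M i hv)).1 fun a ha => zc_comm _ _ (a2 ha) _ (a1 hv)
      rw [hve] at h5
      exact one_ne_zero h5
  · exact ⟨e, f, g, e', f', g', m, m', p, h1, h2, h3, h4, fun v => Sd.pc_zero S M i v, fun v => Sd.pc_zero S' M' j v⟩

include hG hp in
/-- **The end**: a matched pair of factors and a second factor `l ≠ i`. -/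
theorem false_of_mt (hF : 4 ≤ Nat.card F) {i : Fin k} {j : Fin k'} (m : Mt M M' i j) (m' : Mt M' M j i)
    (hh : VZ M) (hh' : VZ M')
    (hs : ¬ (SplitPar (S : Subgroup G) P ∧ SplitPar (S' : Subgroup G) P')) {l : Fin k} (hl : l ≠ i) : False := by
  have q : Sit F S P k := ⟨hG, hp.star, i.pos, hF⟩
  obtain ⟨e, f, g, e', f', g', o⟩ := exists_po' hG hp (ThmCQ.Nsp.hω q) m m' hh hh' hs
  -- `U' = Zf M i`
  have hU : Uc M' j = Zf M i := by
    ext x
    rw [o.U'_iff x, ThmCQ.Nsp.mem_Zf_iff_form q o.p.φ x]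
  obtain ⟨r, n, t, ht, x, hr, hr2, ht1, htr, hxn, hx⟩ := ThmCQ.Nsp.exists_elt (M := M) q l
  have hVc : Nc M' j ≤ centralizer (Uc M' j : Set G) := by
    intro a ha
    exact mem_centralizer_iff.2 fun u hu =>
      Sd.V_comm hG S' hp.star' (Nc_le M' j hu.1) (Nc_le M' j ha)
  refine OppBase.false_of o.p o.c1 o.c2 o.g1 o.g1' (h := x) (Z₂ := Zf M l) ?_ ?_ ?_ ?_ ?_ ?_ ?_ hr hr2 hxn htr ht1
  · rw [hU]; exact ThmCQ.Nsp.o2_cent_Zf_le_Tc q i
  · exact ThmCQ.Nsp.zc_cent_of_norm (hh' j o.symm.U_ne) hVc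
  · rw [hU]; exact (ThmCQ.Nsp.Zf_le l).trans (ThmCQ.Nsp.Nc_le_zc_cent q hl)
  · exact ThmCQ.Nsp.Nc_le_zc q hl.symm
  · exact fun a ha => ThmCQ.Nsp.Al_comm_Nc q hl.symm hx ha
  · exact fun z hz => ThmCQ.Nsp.conj_Zf_Al q hx (by simp) hz
  · intro z hz hc
    have h1 := ThmCQ.Nsp.e_comm hx (ThmCQ.Nsp.Zf_le_V l hz) (ThmCQ.Nsp.Zf_le_NL l hz).2
    have h2 : x * z * x⁻¹ * z⁻¹ = 1 := by rw [hc]; group
    rw [h2, Cv.e_one M] at h1
    have h3 : (t - 1) * M.e z l 0 = 0 := (congrFun h1 0).symm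
    exact ThmCQ.Nsp.eq_one_of_Zf q hz ((mul_eq_zero.1 h3).resolve_left (sub_ne_zero.2 ht1))

omit hG hp in
/-- **`CvNonsplit` for `k ≥ 2` or `k' ≥ 2`**, from (H1b). -/
theorem nonsplit_of {G : Type u} [Group G] [Finite G] (hG : IsCharacteristicTwoType G) {S S' : Sylow 2 G}
    {P P' : Subgroup G} (hp : Pair S S' P P') (hT : NoOver (zl (S : Subgroup G) P) P)
    (hT' : NoOver (zl (S' : Subgroup G) P') P') {k k' : ℕ} (hk : 1 ≤ k) (hk' : 1 ≤ k') (hkk : 2 ≤ k ∨ 2 ≤ k')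
    (hM : IsNat (S : Subgroup G) P k) (hM' : IsNat (S' : Subgroup G) P' k')
    (hs : ¬ (SplitPar (S : Subgroup G) P ∧ SplitPar (S' : Subgroup G) P'))
    (hvz : ∀ (F : Type) [Field F] [Finite F] [CharP F 2]
      (M : NatK F (S : Subgroup G) P (zl (S : Subgroup G) P) (cv (S : Subgroup G) P) k), 4 ≤ Nat.card F → VZ M)
    (hvz' : ∀ (F : Type) [Field F] [Finite F] [CharP F 2]
      (M : NatK F (S' : Subgroup G) P' (zl (S' : Subgroup G) P') (cv (S' : Subgroup G) P') k'), 4 ≤ Nat.card F → VZ M) :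
    False := by
  obtain ⟨F, _, _, _, ⟨M⟩⟩ := hM
  obtain ⟨F', _, _, _, ⟨M₁⟩⟩ := hM'
  obtain ⟨I, I', b, c, d⟩ := exists_pd hG hp hT hT' M M₁
  have hcard := d.card_eq hk hk'
  -- `|F| ≥ 4`
  have hF : 4 ≤ Nat.card F := by
    by_contra hlt
    have : Fintype F := Fintype.ofFinite F
    have h1 : 1 < Nat.card F := Finite.one_lt_card
    have h2 : 2 ∣ Nat.card F := two_dvd_card
    have h3 : Nat.card F = 2 := by omega
    exact hs ⟨splitPar_two hG S hp.star M hk h3, splitPar_two hG S' hp.star' M₁ hk' (hcard ▸ h3)⟩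
  -- one field
  have : Fintype F := Fintype.ofFinite F
  have : Fintype F' := Fintype.ofFinite F'
  have hσ : Nonempty (F' ≃+* F) := by
    rw [Nat.card_eq_fintype_card, Nat.card_eq_fintype_card] at hcard
    exact ⟨FiniteField.ringEquivOfCardEq hcard.symm⟩
  obtain ⟨σ⟩ := hσ
  obtain ⟨M', hM'⟩ : ∃ M' : NatK F (S' : Subgroup G) P' (zl (S' : Subgroup G) P') (cv (S' : Subgroup G) P') k',
      M' = natKFld σ M₁ := ⟨_, rfl⟩
  obtain ⟨I, I', b, c, d⟩ := exists_pd hG hp hT hT' M M'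
  obtain ⟨i, j, m, m'⟩ := d.exists_mt hk hk'
  rcases hkk with h2 | h2
  · obtain ⟨l, hl⟩ : ∃ l : Fin k, l ≠ i := by
      have : Nontrivial (Fin k) := Fin.nontrivial_iff_two_le.2 h2
      exact exists_ne i
    exact false_of_mt hG hp hF m m' (hvz F M hF) (hvz' F M' hF) hs hl
  · obtain ⟨l, hl⟩ : ∃ l : Fin k', l ≠ j := by
      have : Nontrivial (Fin k') := Fin.nontrivial_iff_two_le.2 h2
      exact exists_ne j
    exact false_of_mt hG hp.symm hF m' m (hvz' F M' hF) (hvz F M hF) (fun h => hs ⟨h.2, h.1⟩) hl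

end Cfsg.Agent.Omega.IId.CvNS.Plug
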